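import Cfsg.Agent.Lib.OstromWagner.Trans
import Cfsg.Agent.Lib.AxialDesign.Points

/-!
# Coordinates of a plane with a perspectivity and a doubly transitive group
-/

set_option autoImplicit false
set_option linter.unusedSectionVars false
set_option linter.unusedVariables false

open scoped Classical LinearAlgebra.Projectivization Matrix
open MulAction

namespace Cfsg.Agent.OstromWagner.Geo

variable {Γ P L : Type*} [Group Γ] [MulAction Γ P] [MulAction Γ L] (S : Geo Γ P L) [Finite P] [Finite L]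

/-- A subspace of dimension one less than the space is the kernel of a dot product. -/
theorem exists_dot {F : Type*} [Field F] (W : Submodule F (Fin 3 → F)) (hW : Module.finrank F W = 2) :
    ∃ b : Fin 3 → F, b ≠ 0 ∧ ∀ w, w ∈ W ↔ b ⬝ᵥ w = 0 := by
  obtain ⟨x, hx⟩ : ∃ x, x ∉ W := by
    by_contra! h
    rw [show W = ⊤ from eq_top_iff.2 fun x _ => h x, finrank_top, Module.finrank_fin_fun] at hW
    omega
  obtain ⟨g, hgx, hg⟩ := Submodule.exists_dual_map_eq_bot_of_notMem hx inferInstance
  have hle : W ≤ LinearMap.ker g := fun w hw => by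
    have := Submodule.mem_map_of_mem (f := g) hw
    rwa [hg, Submodule.mem_bot] at this
  have hlt : LinearMap.ker g < ⊤ := lt_top_iff_ne_top.2 fun h => hgx (by
    have : x ∈ LinearMap.ker g := h ▸ Submodule.mem_top
    exact this)
  have h1 := Submodule.finrank_lt hlt.ne
  rw [Module.finrank_fin_fun] at h1
  have heq : W = LinearMap.ker g :=
    Submodule.eq_of_le_of_finrank_le hle (by omega)
  refine ⟨fun i => g (Pi.single i 1), fun h => hgx ?_, fun w => ?_⟩
  · rw [← Finset.univ_sum_single x, map_sum]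
    refine Finset.sum_eq_zero fun i _ => ?_
    rw [show Pi.single i (x i) = x i • Pi.single (M := fun _ => F) i 1 by
      rw [← Pi.single_smul', smul_eq_mul, mul_one], map_smul,
      show g (Pi.single i 1) = 0 from congrFun h i, smul_zero]
  · rw [heq, LinearMap.mem_ker]
    refine Eq.congr_left ?_
    conv_lhs => rw [← Finset.univ_sum_single w, map_sum]
    refine Finset.sum_congr rfl fun i _ => ?_
    rw [show Pi.single i (w i) = w i • Pi.single (M := fun _ => F) i 1 by
      rw [← Pi.single_smul', smul_eq_mul, mul_one], map_smul, smul_eq_mul, mul_comm]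

/-- The kernel of a nonzero dot product. -/
theorem exists_ker {F : Type*} [Field F] {b : Fin 3 → F} (hb : b ≠ 0) :
    ∃ W : Submodule F (Fin 3 → F), Module.finrank F W = 2 ∧ ∀ w, w ∈ W ↔ b ⬝ᵥ w = 0 := by
  let f : (Fin 3 → F) →ₗ[F] F :=
    { toFun := fun w => b ⬝ᵥ w
      map_add' := fun v w => dotProduct_add b v w
      map_smul' := fun t w => dotProduct_smul t b w }
  refine ⟨LinearMap.ker f, ?_, fun w => LinearMap.mem_ker⟩
  obtain ⟨i, hi⟩ : ∃ i, b i ≠ 0 := Function.ne_iff.1 hb
  have hr : LinearMap.range f = ⊤ := by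
    refine LinearMap.range_eq_top.2 fun y => ⟨Pi.single i (y / b i), ?_⟩
    show b ⬝ᵥ Pi.single i (y / b i) = y
    rw [dotProduct_single, mul_div_cancel₀ _ hi]
  have h := f.finrank_range_add_finrank_ker
  rw [hr, finrank_top, Module.finrank_self, Module.finrank_fin_fun] at h
  omega

/-- A doubly transitive plane with a nontrivial perspectivity is coordinatised by a field. -/
theorem desarguesian (h2 : ∀ p₁ p₂ q₁ q₂ : P, p₁ ≠ p₂ → q₁ ≠ q₂ → ∃ g : Γ, g • p₁ = q₁ ∧ g • p₂ = q₂)
    (hax : ∃ g : Γ, g ≠ 1 ∧ ∃ A, S.Ax g A) :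
    ∃ (F : Type) (_ : Field F) (_ : Fintype F) (φ : P ≃ ℙ F (Fin 3 → F)),
      Fintype.card F = S.n ∧
      (∀ l : L, ∃ W : Submodule F (Fin 3 → F), Module.finrank F W = 2 ∧
        ∀ p : P, S.inc p l ↔ (φ p).submodule ≤ W) ∧
      (∀ W : Submodule F (Fin 3 → F), Module.finrank F W = 2 →
        ∃ l : L, ∀ p : P, S.inc p l ↔ (φ p).submodule ≤ W) := by
  have := S.finite_group
  have : FaithfulSMul Γ P := ⟨fun {g h} e => mul_inv_eq_one.1 (S.faith _ fun p => by
    rw [mul_smul, e, smul_inv_smul])⟩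
  obtain ⟨g, hg1, A, hgA⟩ := hax
  have hn := S.one_lt
  let T : AxialDesign.Sys Γ P L :=
    { pts := fun X => {x | S.inc x X}
      k := S.n + 1
      lam := 1
      smul_mem := fun g x X => S.smul_inc g x X
      card_pts := S.card_line
      card_blks := S.card_pencil
      card_pair := fun x y h => S.ncard_pair_one h
      card_inter := fun X Y h => S.dual.ncard_pair_one h
      lam_add_two := by omega
      lam_pos := le_rfl
      two_le_compl := by rw [S.card_P]; nlinarith
      lam_mul := by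
        rw [S.card_P, one_mul, Nat.add_sub_cancel, Nat.add_sub_cancel]
        ring
      card_eq := by rw [S.card_L, S.card_P]
      fixed_eq := S.fixed_eq
      two_trans := fun x y x' y' h h' => h2 x y x' y' h h'
      two_trans_blk := fun X Y X' Y' h h' => S.two_trans_lines h2 X Y X' Y' h h'
      trans_in := fun X x y hx hy => S.trans_in h2 hx hy
      trans_out := fun X x y hx hy => S.trans_out h2 hx hy
      exists_axial := fun X => by
        obtain ⟨x, hx, -, -⟩ := S.exists_line_avoid X (S.exists_off X).choose (S.exists_off X).choose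
        obtain ⟨a, ha, -, -⟩ := S.exists_line_avoid A (S.exists_off A).choose (S.exists_off A).choose
        obtain ⟨h, -, hA⟩ := S.trans_flag h2 ha hx
        exact ⟨h * g * h⁻¹, fun e => hg1 (conj_eq_one_iff.1 e), fun p hp =>
          Ax.conj S hgA p (show S.inc p (h • A) by rw [hA]; exact hp)⟩ }
  obtain ⟨B⟩ := (Nat.card_pos_iff.1 (show 0 < Nat.card L by rw [S.card_L]; omega)).1
  obtain ⟨fr⟩ := T.exists_frame B
  obtain ⟨F, _, _, ⟨co⟩⟩ := AxialDesign.exists_coord fr
  have hE : Nat.card (T.E B) = Fintype.card F ^ fr.m := by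
    have e : Nat.card (AxialDesign.EAdd T B) = Nat.card (Fin fr.m → F) := Nat.card_congr co.e.symm.toEquiv
    rw [Nat.card_fun, Nat.card_fin, Nat.card_eq_fintype_card (α := F)] at e
    rw [← e]
    exact Nat.card_congr Additive.ofMul
  have hsq : Nat.card (T.E B) = S.n ^ 2 := by
    rw [T.card_E']
    exact S.ncard_off B
  have hq : Fintype.card F = S.n := by
    have h := T.card_E B
    rw [hsq] at h
    have hF := Fintype.one_lt_card (α := F)
    have hk : T.k = S.n + 1 := rfl
    rw [co.card_eq] at hF ⊢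
    rw [hk] at h
    obtain ⟨q, hq⟩ : ∃ q, T.q B = q + 1 := ⟨T.q B - 1, by omega⟩
    rw [hq, Nat.add_sub_cancel] at h
    rw [hq]
    nlinarith
  have hm : 3 = fr.m + 1 := by
    rw [hsq, hq] at hE
    have := Nat.pow_right_injective (show 2 ≤ S.n by omega) hE
    omega
  suffices hgen : ∀ M, M = fr.m + 1 → ∃ φ : P ≃ ℙ F (Fin M → F),
      (∀ l : L, ∃ b : Fin M → F, b ≠ 0 ∧
        ∀ w (hw : w ≠ 0), S.inc (φ.symm (Projectivization.mk F w hw)) l ↔ b ⬝ᵥ w = 0) ∧
      ∀ b : Fin M → F, b ≠ 0 → ∃ l : L,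
        ∀ w (hw : w ≠ 0), S.inc (φ.symm (Projectivization.mk F w hw)) l ↔ b ⬝ᵥ w = 0 by
    obtain ⟨φ, h1, h3⟩ := hgen 3 hm
    have hmem : ∀ (p : P) (W : Submodule F (Fin 3 → F)), ∃ w, ∃ hw : w ≠ 0,
        φ.symm (Projectivization.mk F w hw) = p ∧ ((φ p).submodule ≤ W ↔ w ∈ W) := by
      intro p W
      refine ⟨(φ p).rep, (φ p).rep_nonzero, by rw [Projectivization.mk_rep, Equiv.symm_apply_apply], ?_⟩
      rw [Projectivization.submodule_eq, Submodule.span_singleton_le_iff_mem]
    refine ⟨F, _, _, φ, hq, fun l => ?_, fun W hW => ?_⟩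
    · obtain ⟨b, hb, hl⟩ := h1 l
      obtain ⟨W, hW, hWb⟩ := exists_ker hb
      refine ⟨W, hW, fun p => ?_⟩
      obtain ⟨w, hw, rfl, hp⟩ := hmem p W
      rw [hp, hl w hw, hWb]
    · obtain ⟨b, hb, hWb⟩ := exists_dot W hW
      obtain ⟨l, hl⟩ := h3 b hb
      refine ⟨l, fun p => ?_⟩
      obtain ⟨w, hw, rfl, hp⟩ := hmem p W
      rw [hp, hl w hw, hWb]
  rintro M rfl
  refine ⟨co.point.symm, fun l => ?_, fun b hb => ?_⟩
  · obtain ⟨b, hb, h⟩ := co.exists_vec l
    exact ⟨b, hb, fun w hw => by rw [Equiv.symm_symm, co.point_mk hw]; exact h w hw⟩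
  · obtain ⟨l, h⟩ := co.exists_blk hb
    exact ⟨l, fun w hw => by rw [Equiv.symm_symm, co.point_mk hw]; exact h w hw⟩

end Cfsg.Agent.OstromWagner.Geo
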