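import Cfsg.Agent.Lib.OstromWagner.Axial

/-!
# Elation groups

Semiregularity, and the elementary abelian structure of an elation group with two directions.
-/

set_option autoImplicit false
set_option linter.unusedSectionVars false

open scoped Classical

namespace Cfsg.Agent.OstromWagner

/-- The order of a group acting freely on an invariant finite set divides its size. -/
theorem card_dvd_of_free {Γ X : Type*} [Group Γ] [Finite Γ] [MulAction Γ X] (E : Subgroup Γ)
    (Y : Set X) [Finite Y] (hinv : ∀ e ∈ E, ∀ y ∈ Y, e • y ∈ Y)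
    (hfree : ∀ e ∈ E, ∀ y ∈ Y, e • y = y → e = 1) : Nat.card E ∣ Y.ncard := by
  let _ : MulAction E Y :=
    { smul := fun e y => ⟨(e : Γ) • y.1, hinv _ e.2 _ y.2⟩
      one_smul := fun y => Subtype.ext (one_smul Γ y.1)
      mul_smul := fun e f y => Subtype.ext (mul_smul (e : Γ) (f : Γ) y.1) }
  have hst : ∀ y : Y, MulAction.stabilizer E y = ⊥ := fun y =>
    (Subgroup.eq_bot_iff_forall _).2 fun e he =>
      Subtype.ext (hfree _ e.2 _ y.2 (congrArg Subtype.val (MulAction.mem_stabilizer_iff.1 he)))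
  have hq : ∀ y : Y, Nat.card (E ⧸ MulAction.stabilizer E y) = Nat.card E := fun y => by
    rw [hst y]
    exact (Nat.card_congr (QuotientGroup.quotientBot (G := E)).toEquiv)
  have := Fintype.ofFinite (MulAction.orbitRel.Quotient E Y)
  rw [← Nat.card_coe_set_eq, Nat.card_congr (MulAction.selfEquivSigmaOrbitsQuotientStabilizer E Y),
    Nat.card_sigma]
  exact Finset.dvd_sum fun ω _ => (hq _).symm ▸ dvd_rfl

/-- A natural number power of a prime. -/
theorem isPrimePow_of_dvd_pow {p a r : ℕ} (hp : p.Prime) (hr : 1 < r) (h : r ∣ p ^ a) :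
    IsPrimePow r := by
  obtain ⟨i, -, rfl⟩ := (Nat.dvd_prime_pow hp).1 h
  refine ⟨p, i, hp.prime, ?_, rfl⟩
  rcases Nat.eq_zero_or_pos i with rfl | h
  · simp at hr
  · exact h

namespace Geo

variable {Γ P L : Type*} [Group Γ] [MulAction Γ P] [MulAction Γ L] (S : Geo Γ P L) [Finite P] [Finite L]

theorem ncard_off (A : L) : {q | ¬ S.inc q A}.ncard = S.n ^ 2 := by
  have h := Set.ncard_add_ncard_compl {q | S.inc q A}
  rw [S.card_line, S.card_P] at h
  have : {q | ¬ S.inc q A} = {q | S.inc q A}ᶜ := rfl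
  rw [this]
  omega

theorem ncard_line_sdiff {X : P} {m : L} (h : S.inc X m) : ({q | S.inc q m} \ {X}).ncard = S.n := by
  rw [Set.ncard_sdiff_singleton_of_mem (show X ∈ {q | S.inc q m} from h), S.card_line]
  omega

theorem ncard_pencil_sdiff {X : P} {m : L} (h : S.inc X m) :
    ({l | S.inc X l} \ {m}).ncard = S.n := S.dual.ncard_line_sdiff h

theorem card_El_dvd (A : L) : Nat.card (S.El A) ∣ S.n ^ 2 := by
  have := S.finite_group
  rw [← S.ncard_off A]
  exact card_dvd_of_free _ _ (fun e he y hy h => hy ((S.inc_smul_fix (S.El_fix he) y).1 h))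
    fun e he y hy h => S.El_semireg he hy h

theorem card_EC_dvd {X : P} {A : L} (hX : S.inc X A) : Nat.card (S.EC X A) ∣ S.n := by
  have := S.finite_group
  obtain ⟨m, hXm, hmA, -⟩ := S.exists_pencil_avoid X A A
  rw [← S.ncard_line_sdiff hXm]
  refine card_dvd_of_free _ _ ?_ ?_
  · rintro e he y ⟨hy, hyX⟩
    refine ⟨(S.inc_smul_fix (he.2 m hXm) y).2 hy, fun h => hyX ?_⟩
    exact MulAction.injective e (h.trans (Cen.fix S he.2).symm)
  · rintro e he y ⟨hy, hyX⟩ h
    exact S.EC_eq_one hX he (fun hyA => hyX (S.eq_point hmA hy hyA hXm hX)) h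

theorem EC_normal {X : P} {A : L} (hX : S.inc X A) {g e : Γ} (hg : g ∈ S.EC X A) (he : e ∈ S.El A) :
    e * g * e⁻¹ ∈ S.EC X A := by
  have := S.EC_conj e hg
  rwa [S.El_ax he X hX, S.El_fix he] at this

theorem commute_EC {X Y : P} {A : L} (hX : S.inc X A) (hY : S.inc Y A) (hne : X ≠ Y) {g h : Γ}
    (hg : g ∈ S.EC X A) (hh : h ∈ S.EC Y A) : g * h = h * g := by
  have h1 : g * h * g⁻¹ * h⁻¹ = 1 := by
    refine S.EC_inf hne (X := X) (Y := Y) (A := A) ?_ ?_
    · rw [show g * h * g⁻¹ * h⁻¹ = g * (h * g⁻¹ * h⁻¹) by group]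
      exact mul_mem hg (S.EC_normal hX (inv_mem hg) (S.EC_le_El hY hh))
    · exact mul_mem (S.EC_normal hY hh (S.EC_le_El hX hg)) (inv_mem hh)
  calc g * h = (g * h * g⁻¹ * h⁻¹) * (h * g) := by group
    _ = h * g := by rw [h1, one_mul]

/-- The centre of a product of elations in different directions is a third point. -/
theorem EC_mul {X Y : P} {A : L} (hX : S.inc X A) (hY : S.inc Y A) (hne : X ≠ Y) {g h : Γ}
    (hg : g ∈ S.EC X A) (hh : h ∈ S.EC Y A) (hg1 : g ≠ 1) (hh1 : h ≠ 1) :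
    ∃ Z, S.inc Z A ∧ Z ≠ X ∧ Z ≠ Y ∧ g * h ∈ S.EC Z A := by
  obtain ⟨Z, hZ, hgh⟩ := S.mem_El_iff.1 (mul_mem (S.EC_le_El hX hg) (S.EC_le_El hY hh))
  refine ⟨Z, hZ, ?_, ?_, hgh⟩
  · rintro rfl
    refine hh1 (S.EC_inf hne (X := Z) (Y := Y) (A := A) ?_ hh)
    have := mul_mem (inv_mem hg) hgh
    rwa [inv_mul_cancel_left] at this
  · rintro rfl
    refine hg1 (S.EC_inf hne hg ?_)
    have := mul_mem hgh (inv_mem hh)
    rwa [mul_inv_cancel_right] at this

/-- An elation group with two directions is an elementary abelian `p`-group. -/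
theorem exists_prime_El {X Y : P} {A : L} (hX : S.inc X A) (hY : S.inc Y A) (hne : X ≠ Y)
    {g h : Γ} (hg : g ∈ S.EC X A) (hh : h ∈ S.EC Y A) (hg1 : g ≠ 1) (hh1 : h ≠ 1) :
    ∃ p a, p.Prime ∧ Nat.card (S.El A) = p ^ a ∧ ∀ e ∈ S.El A, e ^ p = 1 := by
  have := S.finite_group
  -- some element of `EC X A` has prime order `p`
  have hnt : 1 < Nat.card (S.EC X A) := by
    rw [Finite.one_lt_card_iff_nontrivial]
    exact ⟨⟨g, hg⟩, 1, fun e => hg1 (congrArg Subtype.val e)⟩
  obtain ⟨p, hp, hpd⟩ := Nat.exists_prime_and_dvd hnt.ne'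
  have := Fact.mk hp
  obtain ⟨x, hx⟩ := exists_prime_orderOf_dvd_card' p hpd
  have hxp : (x : Γ) ^ p = 1 := by
    rw [← Subgroup.coe_pow, ← hx, pow_orderOf_eq_one, Subgroup.coe_one]
  have hx1 : (x : Γ) ≠ 1 := by
    intro e
    have : x = 1 := Subtype.ext e
    rw [this, orderOf_one] at hx
    exact hp.one_lt.ne hx
  -- every elation in another direction has exponent `p`
  have hother : ∀ {U V : P} {u v : Γ}, S.inc U A → S.inc V A → U ≠ V → u ∈ S.EC U A → v ∈ S.EC V A →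
      u ≠ 1 → u ^ p = 1 → v ^ p = 1 := by
    intro U V u v hU hV hUV hu hv hu1 hup
    by_cases hv1 : v = 1
    · rw [hv1, one_pow]
    obtain ⟨Z, hZ, hZU, hZV, huv⟩ := S.EC_mul hU hV hUV hu hv hu1 hv1
    refine S.EC_inf hZV ?_ (pow_mem hv p)
    have := pow_mem huv p
    rwa [(show Commute u v from S.commute_EC hU hV hUV hu hv).mul_pow, hup, one_mul] at this
  have hhp : h ^ p = 1 := hother hX hY hne x.2 hh hx1 hxp
  have hall : ∀ e ∈ S.El A, e ^ p = 1 := by
    intro e he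
    obtain ⟨Z, hZ, heZ⟩ := S.mem_El_iff.1 he
    by_cases hZX : Z = X
    · exact hother hY hZ (hZX ▸ hne.symm) hh heZ hh1 hhp
    · exact hother hX hZ (Ne.symm hZX) x.2 heZ hx1 hxp
  have hpg : IsPGroup p (S.El A) := fun e => ⟨1, Subtype.ext (by simpa using hall e e.2)⟩
  obtain ⟨a, ha⟩ := IsPGroup.iff_card.1 hpg
  exact ⟨p, a, hp, ha, hall⟩

/-- Elations in two directions on one axis, one of full order, force prime power order. -/
theorem isPrimePow_of_two_dirs {X Y : P} {A : L} (hX : S.inc X A) (hY : S.inc Y A) (hne : X ≠ Y)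
    {g h : Γ} (hg : g ∈ S.EC X A) (hh : h ∈ S.EC Y A) (hg1 : g ≠ 1) (hh1 : h ≠ 1)
    (hr : S.n ∣ Nat.card (S.El A)) : IsPrimePow S.n := by
  obtain ⟨p, a, hp, hc, -⟩ := S.exists_prime_El hX hY hne hg hh hg1 hh1
  exact isPrimePow_of_dvd_pow hp S.one_lt (hc ▸ hr)

end Geo

end Cfsg.Agent.OstromWagner
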