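import Cfsg.Agent.Lib.OstromWagner.Geo

/-!
# Perspectivities of a finite projective plane

Axes, centres, elation groups, involutory perspectivities.
-/

set_option autoImplicit false
set_option linter.unusedSectionVars false
set_option linter.unusedVariables false

open scoped Classical

namespace Cfsg.Agent.OstromWagner.Geo

variable {Γ P L : Type*} [Group Γ] [MulAction Γ P] [MulAction Γ L] (S : Geo Γ P L)

/-- `A` is an axis of `g`. -/
def Ax (g : Γ) (A : L) : Prop := ∀ p, S.inc p A → g • p = p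

/-- `C` is a centre of `g`. -/
def Cen (g : Γ) (C : P) : Prop := ∀ l, S.inc C l → g • l = l

theorem dual_ax {g : Γ} {C : P} : S.dual.Ax g C ↔ S.Cen g C := Iff.rfl

theorem dual_cen {g : Γ} {A : L} : S.dual.Cen g A ↔ S.Ax g A := Iff.rfl

theorem Ax.mul {g h : Γ} {A : L} (hg : S.Ax g A) (hh : S.Ax h A) : S.Ax (g * h) A := fun p hp => by
  rw [mul_smul, hh p hp, hg p hp]

theorem Ax.inv {g : Γ} {A : L} (hg : S.Ax g A) : S.Ax g⁻¹ A := fun p hp => by
  rw [inv_smul_eq_iff, hg p hp]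

theorem Ax.one (A : L) : S.Ax (1 : Γ) A := fun _ _ => one_smul _ _

theorem Cen.mul {g h : Γ} {C : P} (hg : S.Cen g C) (hh : S.Cen h C) : S.Cen (g * h) C :=
  Ax.mul S.dual hg hh

theorem Cen.inv {g : Γ} {C : P} (hg : S.Cen g C) : S.Cen g⁻¹ C := Ax.inv S.dual hg

theorem Cen.one (C : P) : S.Cen (1 : Γ) C := Ax.one S.dual C

theorem Ax.conj {g h : Γ} {A : L} (hg : S.Ax g A) : S.Ax (h * g * h⁻¹) (h • A) := fun p hp => by
  rw [mul_smul, mul_smul, hg _ ((S.smul_inc h _ _).1 (by rwa [smul_inv_smul])), smul_inv_smul]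

theorem Cen.conj {g h : Γ} {C : P} (hg : S.Cen g C) : S.Cen (h * g * h⁻¹) (h • C) :=
  Ax.conj S.dual hg

variable [Finite P] [Finite L]

theorem Ax.fix {g : Γ} {A : L} (hg : S.Ax g A) : g • A = A := by
  obtain ⟨q, hq⟩ := S.exists_off A
  obtain ⟨a, ha, -, -⟩ := S.exists_line_avoid A q q
  obtain ⟨b, hb, hba, -⟩ := S.exists_line_avoid A a a
  exact S.fix_line hba (hg b hb) (hg a ha) hb ha

theorem Cen.fix {g : Γ} {C : P} (hg : S.Cen g C) : g • C = C := Ax.fix S.dual hg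

/-- A nontrivial perspectivity fixes at most one point off its axis. -/
theorem ax_fixed_unique {g : Γ} {A : L} (hg : S.Ax g A) (h1 : g ≠ 1) {q q' : P}
    (hq : ¬ S.inc q A) (hq' : ¬ S.inc q' A) (hgq : g • q = q) (hgq' : g • q' = q') : q = q' := by
  by_contra hne
  refine h1 (S.faith g ?_)
  have key : ∀ (a b : P) (m : L), ¬ S.inc a A → ¬ S.inc b A → g • a = a → g • b = b → a ≠ b →
      S.inc a m → S.inc b m → ∀ y, ¬ S.inc y m → g • y = y := by
    intro a b m ha hb hga hgb hab ham hbm y hy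
    obtain ⟨la, hya, haa⟩ := S.exists_line y a
    obtain ⟨lb, hyb, hbb⟩ := S.exists_line y b
    have hne' : la ≠ lb := by
      rintro rfl
      exact hy ((S.eq_line hab haa hbb ham hbm) ▸ hya)
    obtain ⟨xa, hxa, hxA⟩ := S.exists_inter la A
    obtain ⟨xb, hxb, hxB⟩ := S.exists_inter lb A
    have h2 : g • la = la :=
      S.fix_line (fun e => ha (by rw [e]; exact hxA)) hga (hg xa hxA) haa hxa
    have h3 : g • lb = lb :=
      S.fix_line (fun e => hb (by rw [e]; exact hxB)) hgb (hg xb hxB) hbb hxb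
    exact S.fix_point hne' h2 h3 hya hyb
  obtain ⟨m, hqm, hq'm⟩ := S.exists_line q q'
  intro p
  by_cases hp : S.inc p m
  · obtain ⟨y, hym, hyA⟩ := S.exists_off_two m A
    have hy := key q q' m hq hq' hgq hgq' hne hqm hq'm y hym
    obtain ⟨m', hqm', hym'⟩ := S.exists_line q y
    have hqy : q ≠ y := fun e => hym (e ▸ hqm)
    by_cases hp' : S.inc p m'
    · have hmm : m ≠ m' := fun e => hym (e ▸ hym')
      rw [S.eq_point hmm hp hp' hqm hqm']
      exact hgq
    · exact key q y m' hq hyA hgq hy hqy hqm' hym' p hp'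
  · exact key q q' m hq hq' hgq hgq' hne hqm hq'm p hp

/-- Two axes force the identity. -/
theorem eq_one_of_two_axes {g : Γ} {A B : L} (hA : S.Ax g A) (hB : S.Ax g B) (h : A ≠ B) : g = 1 := by
  by_contra h1
  obtain ⟨x, hxA, hxB⟩ := S.exists_inter A B
  obtain ⟨y, hy, hyx, -⟩ := S.exists_line_avoid B x x
  obtain ⟨z, hz, hzx, hzy⟩ := S.exists_line_avoid B x y
  exact hzy (S.ax_fixed_unique hA h1 (fun hzA => hzx (S.eq_point h hzA hz hxA hxB))
    (fun hyA => hyx (S.eq_point h hyA hy hxA hxB)) (hB z hz) (hB y hy))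

theorem eq_one_of_two_centres {g : Γ} {C D : P} (hC : S.Cen g C) (hD : S.Cen g D) (h : C ≠ D) :
    g = 1 :=
  S.dual.eq_one_of_two_axes hC hD h

/-- A fixed point off the axis is a centre. -/
theorem cen_of_fixed {g : Γ} {A : L} (hg : S.Ax g A) {q : P} (hq : ¬ S.inc q A) (hgq : g • q = q) :
    S.Cen g q := fun l hl => by
  obtain ⟨x, hxl, hxA⟩ := S.exists_inter l A
  exact S.fix_line (fun e : q = x => hq (e ▸ hxA)) hgq (hg x hxA) hl hxl

/-- A perspectivity with an axis has a centre. -/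
theorem exists_centre {g : Γ} {A : L} (hg : S.Ax g A) : ∃ C, S.Cen g C := by
  by_cases hex : ∃ q, ¬ S.inc q A ∧ g • q = q
  · obtain ⟨q, hq, hgq⟩ := hex
    exact ⟨q, S.cen_of_fixed hg hq hgq⟩
  push Not at hex
  have hA := Ax.fix S hg
  -- the line joining a point off the axis to its image is fixed
  have hfl : ∀ y, ¬ S.inc y A → ∃ l x, S.inc y l ∧ S.inc x l ∧ S.inc x A ∧ g • l = l ∧ l ≠ A := by
    intro y hy
    obtain ⟨l, hyl, hgyl⟩ := S.exists_line y (g • y)
    obtain ⟨x, hxl, hxA⟩ := S.exists_inter l A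
    have hgy : ¬ S.inc (g • y) A := fun h => hy ((S.inc_smul_fix hA y).1 h)
    refine ⟨l, x, hyl, hxl, hxA, ?_, fun e => hy (e ▸ hyl)⟩
    refine S.eq_line (fun e : g • y = x => hgy (e ▸ hxA)) ((S.smul_inc g y l).2 hyl) ?_ hgyl hxl
    have := (S.smul_inc g x l).2 hxl
    rwa [hg x hxA] at this
  obtain ⟨y₀, hy₀⟩ := S.exists_off A
  obtain ⟨l₀, x₀, hyl₀, hxl₀, hxA₀, hgl₀, hlA₀⟩ := hfl y₀ hy₀
  refine ⟨x₀, fun m hm => ?_⟩
  by_cases hmA : m = A
  · rw [hmA, hA]
  obtain ⟨y, hym, hyx, -⟩ := S.exists_line_avoid m x₀ x₀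
  have hy : ¬ S.inc y A := fun h => hyx (S.eq_point hmA hym h hm hxA₀)
  obtain ⟨l, x, hyl, hxl, hxA, hgl, hlA⟩ := hfl y hy
  -- two fixed lines meet on the axis
  have hx0 : S.inc x₀ l := by
    by_cases he : l = l₀
    · exact he ▸ hxl₀
    obtain ⟨w, hwl, hwl₀⟩ := S.exists_inter l l₀
    have hw : S.inc w A := by
      by_contra hw
      exact hex w hw (S.fix_point he hgl hgl₀ hwl hwl₀)
    rwa [← S.eq_point hlA₀ hwl₀ hw hxl₀ hxA₀]
  rw [S.eq_line hyx hym hm hyl hx0, hgl]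

theorem exists_axis {g : Γ} {C : P} (hg : S.Cen g C) : ∃ A, S.Ax g A := S.dual.exists_centre hg

/-- The fixed points of a nontrivial perspectivity. -/
theorem fixed_pt {g : Γ} {A : L} {C : P} (hA : S.Ax g A) (hC : S.Cen g C) (h1 : g ≠ 1) {q : P}
    (hq : g • q = q) : q = C ∨ S.inc q A := by
  by_contra! h
  exact h1 (S.eq_one_of_two_centres (S.cen_of_fixed hA h.2 hq) hC h.1)

/-- The fixed lines of a nontrivial perspectivity. -/
theorem fixed_line {g : Γ} {A : L} {C : P} (hA : S.Ax g A) (hC : S.Cen g C) (h1 : g ≠ 1) {l : L}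
    (hl : g • l = l) : l = A ∨ S.inc C l :=
  S.dual.fixed_pt (g := g) hC hA h1 hl

/-- Collinearity of the centre with a point and its image. -/
theorem cen_collinear {g : Γ} {C y : P} {l : L} (hC : S.Cen g C) (hCl : S.inc C l)
    (hyl : S.inc y l) : S.inc (g • y) l := (S.inc_smul_fix (hC l hCl) y).2 hyl

/-- Elations with centre `X` and axis `A` (for `X` on `A`). -/
def EC (X : P) (A : L) : Subgroup Γ where
  carrier := {g | S.Ax g A ∧ S.Cen g X}
  one_mem' := ⟨Ax.one S A, Cen.one S X⟩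
  mul_mem' := fun ha hb => ⟨Ax.mul S ha.1 hb.1, Cen.mul S ha.2 hb.2⟩
  inv_mem' := fun ha => ⟨Ax.inv S ha.1, Cen.inv S ha.2⟩

theorem mem_EC {X : P} {A : L} {g : Γ} : g ∈ S.EC X A ↔ S.Ax g A ∧ S.Cen g X := Iff.rfl

theorem dual_EC (X : P) (A : L) : S.dual.EC A X = S.EC X A :=
  Subgroup.ext fun g => ⟨fun h => ⟨h.2, h.1⟩, fun h => ⟨h.2, h.1⟩⟩

theorem EC_conj {X : P} {A : L} {g : Γ} (h : Γ) (hg : g ∈ S.EC X A) :
    h * g * h⁻¹ ∈ S.EC (h • X) (h • A) := ⟨Ax.conj S hg.1, Cen.conj S hg.2⟩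

/-- An element of `EC X A` fixing a point off the axis is trivial. -/
theorem EC_eq_one {X : P} {A : L} (hX : S.inc X A) {g : Γ} (hg : g ∈ S.EC X A) {q : P}
    (hq : ¬ S.inc q A) (hgq : g • q = q) : g = 1 := by
  by_contra h1
  rcases S.fixed_pt hg.1 hg.2 h1 hgq with rfl | h
  · exact hq hX
  · exact hq h

theorem EC_inf {X Y : P} {A : L} {g : Γ} (h : X ≠ Y) (hg : g ∈ S.EC X A) (hg' : g ∈ S.EC Y A) :
    g = 1 := S.eq_one_of_two_centres hg.2 hg'.2 h

/-- All elations with axis `A`. -/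
def El (A : L) : Subgroup Γ where
  carrier := {g | g = 1 ∨ S.Ax g A ∧ ∀ q, g • q = q → S.inc q A}
  one_mem' := Or.inl rfl
  inv_mem' := fun {a} ha => by
    rcases ha with rfl | ⟨h1, h2⟩
    · exact Or.inl inv_one
    · exact Or.inr ⟨Ax.inv S h1, fun q hq => h2 q (inv_smul_eq_iff.1 hq).symm⟩
  mul_mem' := fun {a b} ha hb => by
    rcases ha with rfl | ⟨ha1, ha2⟩
    · rw [one_mul]; exact hb
    rcases hb with rfl | ⟨hb1, hb2⟩
    · rw [mul_one]; exact Or.inr ⟨ha1, ha2⟩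
    refine or_iff_not_imp_left.2 fun hne => ⟨Ax.mul S ha1 hb1, fun q hq => ?_⟩
    by_contra hqA
    obtain ⟨Xa, hXa⟩ := S.exists_centre ha1
    obtain ⟨Xb, hXb⟩ := S.exists_centre hb1
    have hXaA : S.inc Xa A := ha2 Xa (Cen.fix S hXa)
    have hXbA : S.inc Xb A := hb2 Xb (Cen.fix S hXb)
    by_cases hX : Xa = Xb
    · subst hX
      exact hne (S.EC_eq_one hXaA ⟨Ax.mul S ha1 hb1, Cen.mul S hXa hXb⟩ hqA hq)
    obtain ⟨l, hXl, hql⟩ := S.exists_line Xb q
    have h1 : S.inc (b • q) l := S.cen_collinear hXb hXl hql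
    have hbq : ¬ S.inc (b • q) A := fun h => hqA ((S.inc_smul_fix (Ax.fix S hb1) q).1 h)
    obtain ⟨l', hXl', hql'⟩ := S.exists_line Xa (b • q)
    have h2 : S.inc q l' := by
      have := S.cen_collinear hXa hXl' hql'
      rwa [← mul_smul, hq] at this
    have hqb : q ≠ b • q := fun e => hqA (hb2 q e.symm)
    obtain rfl := S.eq_line hqb hql h1 h2 hql'
    exact hX (S.eq_point (fun e : l = A => hqA (e ▸ hql)) hXl' hXaA hXl hXbA)

theorem EC_le_El {X : P} {A : L} (hX : S.inc X A) : S.EC X A ≤ S.El A := fun g hg => by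
  refine or_iff_not_imp_left.2 fun h1 => ⟨hg.1, fun q hq => ?_⟩
  by_contra h
  exact h1 (S.EC_eq_one hX hg h hq)

theorem mem_El_iff {A : L} {g : Γ} : g ∈ S.El A ↔ ∃ X, S.inc X A ∧ g ∈ S.EC X A := by
  constructor
  · rintro (rfl | ⟨h1, h2⟩)
    · obtain ⟨q, hq⟩ := S.exists_off A
      obtain ⟨X, hX, -, -⟩ := S.exists_line_avoid A q q
      exact ⟨X, hX, one_mem _⟩
    · obtain ⟨X, hX⟩ := S.exists_centre h1
      exact ⟨X, h2 X (Cen.fix S hX), h1, hX⟩
  · rintro ⟨X, hX, hg⟩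
    exact S.EC_le_El hX hg

theorem El_ax {A : L} {g : Γ} (hg : g ∈ S.El A) : S.Ax g A := by
  obtain ⟨X, -, h⟩ := S.mem_El_iff.1 hg
  exact h.1

theorem El_fix {A : L} {g : Γ} (hg : g ∈ S.El A) : g • A = A := Ax.fix S (S.El_ax hg)

theorem El_semireg {A : L} {g : Γ} (hg : g ∈ S.El A) {q : P} (hq : ¬ S.inc q A) (h : g • q = q) :
    g = 1 :=
  hg.resolve_right fun h' => hq (h'.2 q h)

theorem El_conj {A : L} {g h : Γ} (hg : g ∈ S.El A) : h * g * h⁻¹ ∈ S.El (h • A) := by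
  obtain ⟨X, hX, hgX⟩ := S.mem_El_iff.1 hg
  exact S.mem_El_iff.2 ⟨h • X, (S.smul_inc h X A).2 hX, S.EC_conj h hgX⟩

/-- An element of `El A` fixing a line other than the axis has its centre on it. -/
theorem EC_of_fixed_line {A m : L} {g : Γ} (hg : g ∈ S.El A) (hm : g • m = m) (hne : m ≠ A) {X : P}
    (hXm : S.inc X m) (hXA : S.inc X A) : g ∈ S.EC X A := by
  obtain ⟨Y, hY, hgY⟩ := S.mem_El_iff.1 hg
  by_cases h1 : g = 1
  · exact h1 ▸ one_mem _
  rcases S.fixed_line hgY.1 hgY.2 h1 hm with h | h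
  · exact absurd h hne
  · rwa [S.eq_point hne hXm hXA h hY]

/-- An involutory homology with centre `C` and axis `A`. -/
structure IsHom (g : Γ) (C : P) (A : L) : Prop where
  ax : S.Ax g A
  cen : S.Cen g C
  ne_one : g ≠ 1
  sq : g * g = 1
  off : ¬ S.inc C A

theorem IsHom.conj {g : Γ} {C : P} {A : L} (hg : S.IsHom g C A) (h : Γ) :
    S.IsHom (h * g * h⁻¹) (h • C) (h • A) where
  ax := Ax.conj S hg.ax
  cen := Cen.conj S hg.cen
  ne_one := fun e => hg.ne_one (conj_eq_one_iff.1 e)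
  sq := by
    rw [show h * g * h⁻¹ * (h * g * h⁻¹) = h * (g * g) * h⁻¹ by group, hg.sq, mul_one, mul_inv_cancel]
  off := fun e => hg.off ((S.smul_inc h C A).1 e)

theorem IsHom.inv_eq {g : Γ} {C : P} {A : L} (hg : S.IsHom g C A) : g⁻¹ = g :=
  inv_eq_of_mul_eq_one_left hg.sq

theorem IsHom.dual {g : Γ} {C : P} {A : L} (hg : S.IsHom g C A) : S.dual.IsHom g A C :=
  ⟨hg.cen, hg.ax, hg.ne_one, hg.sq, hg.off⟩

theorem IsHom.of_dual {g : Γ} {C : P} {A : L} (hg : S.dual.IsHom g A C) : S.IsHom g C A :=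
  ⟨hg.cen, hg.ax, hg.ne_one, hg.sq, hg.off⟩

/-- The product of two involutory homologies with the same axis and different centres. -/
theorem IsHom.prod {g h : Γ} {C D : P} {A : L} (hg : S.IsHom g C A) (hh : S.IsHom h D A)
    (hne : C ≠ D) {X : P} {m : L} (hCm : S.inc C m) (hDm : S.inc D m) (hXm : S.inc X m)
    (hXA : S.inc X A) : g * h ∈ S.EC X A ∧ g * h ≠ 1 := by
  have hne1 : g * h ≠ 1 := by
    intro e
    have : g = h := by
      rw [eq_inv_of_mul_eq_one_left e, hh.inv_eq]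
    subst this
    exact hg.ne_one (S.eq_one_of_two_centres hg.cen hh.cen hne)
  have hax : S.Ax (g * h) A := Ax.mul S hg.ax hh.ax
  have hfix : ∀ q, (g * h) • q = q → S.inc q A := by
    intro q hq
    by_contra hqA
    have e : g * (g * h) * g⁻¹ = (g * h)⁻¹ := by
      rw [mul_inv_rev, hg.inv_eq, hh.inv_eq, ← mul_assoc, hg.sq, one_mul]
    have e2 : (g * h) • (g • q) = g • q := by
      have h3 : (g * h)⁻¹ • (g • q) = g • q := by
        rw [← e, mul_smul, mul_smul, inv_smul_smul, hq]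
      exact (inv_smul_eq_iff.1 h3).symm
    have hgq : g • q = q := S.ax_fixed_unique hax hne1
      (fun h' => hqA ((S.inc_smul_fix (Ax.fix S hg.ax) q).1 h')) hqA e2 hq
    have hhq : h • q = q := by
      rw [mul_smul] at hq
      exact MulAction.injective g (hq.trans hgq.symm)
    exact hne (((S.fixed_pt hg.ax hg.cen hg.ne_one hgq).resolve_right hqA).symm.trans
      ((S.fixed_pt hh.ax hh.cen hh.ne_one hhq).resolve_right hqA))
  refine ⟨S.EC_of_fixed_line (show g * h ∈ S.El A from Or.inr ⟨hax, hfix⟩) ?_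
    (fun e => hg.off (e ▸ hCm)) hXm hXA, hne1⟩
  rw [mul_smul, hh.cen m hDm, hg.cen m hCm]

/-- An involutory perspectivity of a plane of odd order is a homology. -/
theorem isHom_of_ax (hodd : Odd S.n) {g : Γ} (h1 : g ≠ 1) (hsq : g * g = 1) {A : L}
    (hA : S.Ax g A) : ∃ C, S.IsHom g C A := by
  obtain ⟨C, hC⟩ := S.exists_centre hA
  refine ⟨C, hA, hC, h1, hsq, fun hCA => ?_⟩
  obtain ⟨l, hCl, hlA, -⟩ := S.exists_pencil_avoid C A A
  have hgl := hC l hCl
  let α := {q : P // S.inc q l ∧ q ≠ C}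
  let σ : Equiv.Perm α := (MulAction.toPerm g : Equiv.Perm P).subtypePerm fun q => by
    show S.inc (g • q) l ∧ g • q ≠ C ↔ S.inc q l ∧ q ≠ C
    have he : g • q = C ↔ q = C :=
      ⟨fun e => MulAction.injective g (e.trans (Cen.fix S hC).symm), fun e => by rw [e, Cen.fix S hC]⟩
    rw [S.inc_smul_fix hgl, ne_eq, ne_eq, he]
  have := Fintype.ofFinite α
  have hcard : Fintype.card α = S.n := by
    rw [← Nat.card_eq_fintype_card]
    show Nat.card {q : P // q ∈ {q | S.inc q l} \ {C}} = _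
    rw [Nat.card_coe_set_eq, Set.ncard_sdiff_singleton_of_mem (by exact hCl), S.card_line]
    omega
  have hσ : σ ^ 2 ^ 1 = 1 := by
    refine Equiv.ext fun q => Subtype.ext ?_
    show g • (g • q.1) = q.1
    rw [← mul_smul, hsq, one_smul]
  obtain ⟨⟨q, hql, hqC⟩, hq⟩ := Equiv.Perm.exists_fixed_point_of_prime (p := 2) (n := 1)
    (by rw [hcard]; exact hodd.not_two_dvd_nat) hσ
  rcases S.fixed_pt hA hC h1 (congrArg Subtype.val hq) with h | h
  · exact hqC h
  · exact hqC (S.eq_point hlA hql h hCl hCA)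

end Cfsg.Agent.OstromWagner.Geo
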