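import Cfsg.Agent.Lib.OstromWagner.Groups

/-!
# Fixed planes and involutions

The fixed elements of a subgroup fixing a quadrangle form a plane. An involution is a perspectivity
or fixes a plane whose order squares to the order (Baer).
-/

set_option autoImplicit false
set_option linter.unusedSectionVars false
set_option linter.unusedVariables false

open scoped Classical

namespace Cfsg.Agent.OstromWagner

theorem order_inj {a b : ℕ} (h : a ^ 2 + a + 1 = b ^ 2 + b + 1) : a = b := by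
  nlinarith [sq_nonneg ((a : ℤ) - b)]

namespace Geo

variable {Γ P L : Type*} [Group Γ] [MulAction Γ P] [MulAction Γ L] (S : Geo Γ P L)

/-- The fixed points of a subgroup. -/
def FP (W : Subgroup Γ) (_ : Geo Γ P L) : Set P := {p | ∀ w ∈ W, w • p = p}

/-- The fixed lines of a subgroup. -/
def FL (W : Subgroup Γ) (_ : Geo Γ P L) : Set L := {l | ∀ w ∈ W, w • l = l}

/-- The incidence on the fixed elements of a subgroup. -/
def subInc (W : Subgroup Γ) : ↥(FP W S) → ↥(FL W S) → Prop := fun p l => S.inc p.1 l.1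

theorem mem_FP_zpowers {g : Γ} {p : P} : p ∈ FP (Subgroup.zpowers g) S ↔ g • p = p := by
  refine ⟨fun h => h g (Subgroup.mem_zpowers g), fun h w hw => ?_⟩
  exact (Subgroup.zpowers_le.2 (show g ∈ MulAction.stabilizer Γ p from h)) hw

theorem mem_FL_zpowers {g : Γ} {l : L} : l ∈ FL (Subgroup.zpowers g) S ↔ g • l = l :=
  S.dual.mem_FP_zpowers

variable [Finite P] [Finite L]

/-- The fixed elements form a plane. -/
theorem exists_sub {W : Subgroup Γ} (hq : Quad S.inc (FP W S)) :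
    ∃ T : Geo (Coll (S.subInc W)) (FP W S) (FL W S), T.inc = S.subInc W := by
  have hline : ∀ p q : FP W S, p ≠ q → ∃! l : FL W S, S.subInc W p l ∧ S.subInc W q l := by
    intro p q hne
    have hne' : p.1 ≠ q.1 := fun e => hne (Subtype.ext e)
    obtain ⟨l, ⟨hp, hq'⟩, hu⟩ := S.line p.1 q.1 hne'
    exact ⟨⟨l, fun w hw => S.fix_line hne' (p.2 w hw) (q.2 w hw) hp hq'⟩, ⟨hp, hq'⟩,
      fun m hm => Subtype.ext (hu m.1 hm)⟩
  have hpoint : ∀ l m : FL W S, l ≠ m → ∃! p : FP W S, S.subInc W p l ∧ S.subInc W p m := by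
    intro l m hne
    have hne' : l.1 ≠ m.1 := fun e => hne (Subtype.ext e)
    obtain ⟨p, ⟨hl, hm⟩, hu⟩ := S.point l.1 m.1 hne'
    exact ⟨⟨p, fun w hw => S.fix_point hne' (l.2 w hw) (m.2 w hw) hl hm⟩, ⟨hl, hm⟩,
      fun q hq' => Subtype.ext (hu q.1 hq')⟩
  have hquad : Quad (S.subInc W) Set.univ := by
    obtain ⟨a, ha, b, hb, c, hc, d, hd, h1, h2, h3, h4, h5⟩ := hq
    exact ⟨⟨a, ha⟩, trivial, ⟨b, hb⟩, trivial, ⟨c, hc⟩, trivial, ⟨d, hd⟩, trivial,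
      fun e => h1 (congrArg Subtype.val e), fun e => h2 (congrArg Subtype.val e),
      fun e => h3 (congrArg Subtype.val e), fun e => h4 (congrArg Subtype.val e), fun l => h5 l.1⟩
  refine exists_ofAxioms _ hline hpoint hquad (coll_smul_inc _) (coll_faith _ fun l m h => ?_)
  by_contra hne
  obtain ⟨a, -, b, -, c, -, d, -, hab, hbc, hbd, had, h5⟩ := hquad
  -- two lines with the same points carry at most one point
  have hle : ∀ p q, S.subInc W p l → S.subInc W q l → p = q := fun p q hp hq' =>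
    (hpoint l m hne).unique ⟨hp, (h p).1 hp⟩ ⟨hq', (h q).1 hq'⟩
  obtain ⟨ab, hab1, -⟩ := hline a b hab
  obtain ⟨bc, hbc1, -⟩ := hline b c hbc
  obtain ⟨bd, hbd1, -⟩ := hline b d hbd
  obtain ⟨ad, had1, -⟩ := hline a d had
  have hno : ∀ k p q, S.subInc W p k → S.subInc W q k → p ≠ q → k ≠ l := fun k p q hp hq' hpq e =>
    hpq (hle p q (e ▸ hp) (e ▸ hq'))
  obtain ⟨x, ⟨hx1, hx2⟩, -⟩ := hpoint ab l (hno ab a b hab1.1 hab1.2 hab)
  obtain ⟨y, ⟨hy1, hy2⟩, -⟩ := hpoint bc l (hno bc b c hbc1.1 hbc1.2 hbc)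
  obtain ⟨z, ⟨hz1, hz2⟩, -⟩ := hpoint ad l (hno ad a d had1.1 had1.2 had)
  obtain ⟨v, ⟨hv1, hv2⟩, -⟩ := hpoint bd l (hno bd b d hbd1.1 hbd1.2 hbd)
  have exy := hle x y hx2 hy2
  have exz := hle x z hx2 hz2
  subst exy exz
  have hne1 : ab ≠ bc := fun e => (h5 ab).1 ⟨hab1.1, hab1.2, e ▸ hbc1.2⟩
  have hne2 : ab ≠ ad := fun e => (h5 ab).2.1 ⟨hab1.1, hab1.2, e ▸ had1.2⟩
  have hb' : x = b := (hpoint ab bc hne1).unique ⟨hx1, hy1⟩ ⟨hab1.2, hbc1.1⟩
  have ha' : x = a := (hpoint ab ad hne2).unique ⟨hx1, hz1⟩ ⟨hab1.1, had1.1⟩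
  exact hab (ha'.symm.trans hb')

/-- An involution is a perspectivity or fixes a quadrangle. -/
theorem quad_or_ax {g : Γ} (hsq : g * g = 1) (h1 : g ≠ 1) :
    (∃ A, S.Ax g A) ∨ Quad S.inc {p | g • p = p} := by
  refine or_iff_not_imp_right.2 fun hnq => ?_
  have hmv : ∀ {l : L}, g • l ≠ l → ∃ p, S.inc p l ∧ g • p = p := by
    intro l hl
    obtain ⟨p, hp, hp'⟩ := S.exists_inter l (g • l)
    refine ⟨p, hp, S.eq_point (Ne.symm hl) ?_ ((S.smul_inc g p l).2 hp) hp hp'⟩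
    have := (S.smul_inc g p (g • l)).2 hp'
    rwa [← mul_smul, hsq, one_smul] at this
  have hmvl : ∀ {p : P}, g • p ≠ p → ∀ l, S.inc p l → S.inc (g • p) l → g • l = l := by
    intro p hp l h h'
    refine S.eq_line hp ((S.smul_inc g p l).2 h) ?_ h' h
    have := (S.smul_inc g (g • p) l).2 h'
    rwa [← mul_smul, hsq, one_smul] at this
  -- some fixed point
  obtain ⟨p₀, hp₀⟩ : ∃ p, g • p = p := by
    by_contra! hno
    apply h1
    refine S.faithL g fun l => ?_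
    by_contra hl
    obtain ⟨p, -, hp⟩ := hmv hl
    exact hno p hp
  obtain ⟨p₁, hp₁, hne₀₁⟩ : ∃ p, g • p = p ∧ p₀ ≠ p := by
    by_contra! hno
    refine h1 (S.faith g fun p => ?_)
    by_cases hp : p = p₀
    · rw [hp, hp₀]
    obtain ⟨m, hpm, hm₀⟩ := S.exists_line p p₀
    obtain ⟨k₁, hk₁, hk₁m, -⟩ := S.exists_pencil_avoid p m m
    obtain ⟨k₂, hk₂, hk₂m, hk₂₁⟩ := S.exists_pencil_avoid p m k₁
    have hfix : ∀ {k}, S.inc p k → k ≠ m → g • k = k := by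
      intro k hk hkm
      by_contra hk'
      obtain ⟨q, hq, hgq⟩ := hmv hk'
      obtain rfl := hno q hgq
      exact hkm (S.eq_line hp hk hq hpm hm₀)
    exact S.fix_point hk₂₁ (hfix hk₂ hk₂m) (hfix hk₁ hk₁m) hk₂ hk₁
  -- the fixed points lie on a line and one more point
  obtain ⟨A, a, ha, x₀, x₁, hx₀, hx₁, hx₀₁, hx₀A, hx₁A, hcov⟩ : ∃ A a, g • a = a ∧ ∃ x₀ x₁,
      g • x₀ = x₀ ∧ g • x₁ = x₁ ∧ x₀ ≠ x₁ ∧ S.inc x₀ A ∧ S.inc x₁ A ∧
      ∀ p, g • p = p → S.inc p A ∨ p = a := by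
    obtain ⟨A₀, h0A, h1A⟩ := S.exists_line p₀ p₁
    by_cases hcol : ∀ p, g • p = p → S.inc p A₀
    · exact ⟨A₀, p₀, hp₀, p₀, p₁, hp₀, hp₁, hne₀₁, h0A, h1A, fun p hp => Or.inl (hcol p hp)⟩
    push Not at hcol
    obtain ⟨p₂, hp₂, hp₂A⟩ := hcol
    -- a side with three fixed points, or all fixed points are vertices
    have key : ∀ (a b c : P) (m : L), g • a = a → g • b = b → g • c = c → b ≠ c → S.inc b m →
        S.inc c m → ¬ S.inc a m → (∃ d, g • d = d ∧ S.inc d m ∧ d ≠ b ∧ d ≠ c) →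
        ∀ p, g • p = p → S.inc p m ∨ p = a := by
      intro a b c m ha hb hc hbc hbm hcm ham ⟨d, hd, hdm, hdb, hdc⟩ e he
      by_contra! hne
      obtain ⟨hem, hea⟩ := hne
      have habn : a ≠ b := fun h => ham (h ▸ hbm)
      have hacn : a ≠ c := fun h => ham (h ▸ hcm)
      have hadn : a ≠ d := fun h => ham (h ▸ hdm)
      obtain ⟨n, han, hen⟩ := S.exists_line a e
      obtain ⟨y, hyn, hym⟩ := S.exists_inter n m
      have hnm : n ≠ m := fun h => ham (h ▸ han)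
      -- two of `b, c, d` are off the line `a e`
      obtain ⟨u, v, huv, hu, hv, hum, hvm, huy, hvy⟩ : ∃ u v, u ≠ v ∧ g • u = u ∧ g • v = v ∧
          S.inc u m ∧ S.inc v m ∧ u ≠ y ∧ v ≠ y := by
        by_cases hby : b = y
        · subst hby
          exact ⟨c, d, hdc.symm, hc, hd, hcm, hdm, hbc.symm, hdb⟩
        by_cases hcy : c = y
        · subst hcy
          exact ⟨b, d, hdb.symm, hb, hd, hbm, hdm, hbc, hdc⟩
        exact ⟨b, c, hbc, hb, hc, hbm, hcm, hby, hcy⟩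
      have hun : ¬ S.inc u n := fun h => huy (S.eq_point hnm h hum hyn hym)
      have hvn : ¬ S.inc v n := fun h => hvy (S.eq_point hnm h hvm hyn hym)
      apply hnq
      refine ⟨a, ha, e, he, u, hu, v, hv, hea.symm, fun h => hun (h ▸ hen), fun h => hvn (h ▸ hen),
        fun h => hvn (h ▸ han), fun l => ⟨?_, ?_, ?_, ?_⟩⟩
      · rintro ⟨h1, h2, h3⟩; exact hun (S.eq_line hea h2 h1 hen han ▸ h3)
      · rintro ⟨h1, h2, h3⟩; exact hvn (S.eq_line hea h2 h1 hen han ▸ h3)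
      · rintro ⟨h1, h2, h3⟩; exact ham (S.eq_line huv h2 h3 hum hvm ▸ h1)
      · rintro ⟨h1, h2, h3⟩; exact hem (S.eq_line huv h2 h3 hum hvm ▸ h1)
    obtain ⟨A₁, h1A₁, h2A₁⟩ := S.exists_line p₁ p₂
    obtain ⟨A₂, h2A₂, h0A₂⟩ := S.exists_line p₂ p₀
    have hne₁₂ : p₁ ≠ p₂ := fun h => hp₂A (h ▸ h1A)
    have hne₂₀ : p₂ ≠ p₀ := fun h => hp₂A (h ▸ h0A)
    have hA1 : A₁ ≠ A₀ := fun h => hp₂A (h ▸ h2A₁)
    have hA2 : A₂ ≠ A₀ := fun h => hp₂A (h ▸ h2A₂)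
    have h0A1 : ¬ S.inc p₀ A₁ := fun h => hA1 (S.eq_line hne₀₁ h h1A₁ h0A h1A)
    have h1A2 : ¬ S.inc p₁ A₂ := fun h => hA2 (S.eq_line hne₀₁ h0A₂ h h0A h1A)
    by_cases hex : ∃ p, g • p = p ∧ p ≠ p₀ ∧ p ≠ p₁ ∧ p ≠ p₂
    · obtain ⟨p, hp, hn0, hn1, hn2⟩ := hex
      by_cases hA : S.inc p A₀
      · exact ⟨A₀, p₂, hp₂, p₀, p₁, hp₀, hp₁, hne₀₁, h0A, h1A,
          key p₂ p₀ p₁ A₀ hp₂ hp₀ hp₁ hne₀₁ h0A h1A hp₂A ⟨p, hp, hA, hn0, hn1⟩⟩
      by_cases hB : S.inc p A₁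
      · exact ⟨A₁, p₀, hp₀, p₁, p₂, hp₁, hp₂, hne₁₂, h1A₁, h2A₁,
          key p₀ p₁ p₂ A₁ hp₀ hp₁ hp₂ hne₁₂ h1A₁ h2A₁ h0A1 ⟨p, hp, hB, hn1, hn2⟩⟩
      by_cases hC : S.inc p A₂
      · exact ⟨A₂, p₁, hp₁, p₂, p₀, hp₂, hp₀, hne₂₀, h2A₂, h0A₂,
          key p₁ p₂ p₀ A₂ hp₁ hp₂ hp₀ hne₂₀ h2A₂ h0A₂ h1A2 ⟨p, hp, hC, hn2, hn0⟩⟩
      exfalso
      apply hnq
      refine ⟨p₀, hp₀, p₁, hp₁, p₂, hp₂, p, hp, hne₀₁, hne₁₂, hn1.symm, hn0.symm,
        fun l => ⟨?_, ?_, ?_, ?_⟩⟩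
      · rintro ⟨h1, h2, h3⟩; exact hp₂A (S.eq_line hne₀₁ h1 h2 h0A h1A ▸ h3)
      · rintro ⟨h1, h2, h3⟩; exact hA (S.eq_line hne₀₁ h1 h2 h0A h1A ▸ h3)
      · rintro ⟨h1, h2, h3⟩; exact hC (S.eq_line hne₂₀ h2 h1 h2A₂ h0A₂ ▸ h3)
      · rintro ⟨h1, h2, h3⟩; exact hB (S.eq_line hne₁₂ h1 h2 h1A₁ h2A₁ ▸ h3)
    · push Not at hex
      refine ⟨A₁, p₀, hp₀, p₁, p₂, hp₁, hp₂, hne₁₂, h1A₁, h2A₁, fun p hp => ?_⟩
      by_cases h0 : p = p₀
      · exact Or.inr h0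
      by_cases h1' : p = p₁
      · exact Or.inl (h1' ▸ h1A₁)
      · exact Or.inl (hex p hp h0 h1' ▸ h2A₁)
  have hA : g • A = A := S.fix_line hx₀₁ hx₀ hx₁ hx₀A hx₁A
  refine ⟨A, fun x hx => ?_⟩
  by_cases hax : a = x
  · rw [← hax]; exact ha
  obtain ⟨k, hxk, hkA, hak⟩ := S.exists_pencil_avoid_pt x a A hax
  by_cases hk : g • k = k
  · exact S.fix_point hkA hk hA hxk hx
  obtain ⟨p, hpk, hp⟩ := hmv hk
  rcases hcov p hp with h | h
  · rwa [← S.eq_point hkA hpk h hxk hx]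
  · exact absurd (h ▸ hpk) hak

/-- Baer: the order of the fixed plane of an involution squares to the order. -/
theorem sq_order {g : Γ} (hsq : g * g = 1) (h1 : g ≠ 1) {m : ℕ}
    (hF : {p : P | g • p = p}.ncard = m ^ 2 + m + 1) (hFL : {l : L | g • l = l}.ncard = m ^ 2 + m + 1)
    (hl : ∀ l : L, g • l = l → {p | S.inc p l ∧ g • p = p}.ncard = m + 1) :
    S.n = m ^ 2 := by
  have := Fintype.ofFinite P
  have := Fintype.ofFinite L
  have hmv : ∀ p : P, g • p ≠ p → {l | g • l = l ∧ S.inc p l}.ncard = 1 := by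
    intro p hp
    obtain ⟨l, hpl, hgl⟩ := S.exists_line p (g • p)
    rw [show {l | g • l = l ∧ S.inc p l} = {l} from Set.ext fun k => ⟨fun ⟨hk, hpk⟩ =>
      S.eq_line hp ((S.inc_smul_fix hk p).2 hpk) hpk hgl hpl, fun (e : k = l) => by
        subst e
        refine ⟨S.eq_line hp ((S.smul_inc g p k).2 hpl) ?_ hgl hpl, hpl⟩
        have := (S.smul_inc g (g • p) k).2 hgl
        rwa [← mul_smul, hsq, one_smul] at this⟩, Set.ncard_singleton]
  let Mv := Finset.univ.filter fun p : P => g • p ≠ p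
  let Fx := Finset.univ.filter fun l : L => g • l = l
  have hcount : ∑ l ∈ Fx, (Mv.filter fun p => S.inc p l).card = Mv.card := by
    rw [show Mv.card = ∑ p ∈ Mv, (Fx.filter fun l => S.inc p l).card by
      rw [Finset.card_eq_sum_ones]
      refine Finset.sum_congr rfl fun p hp => ?_
      rw [← hmv p (Finset.mem_filter.1 hp).2, ← Set.ncard_coe_finset]
      congr 1
      ext l
      simp [Fx]]
    simp only [Finset.card_filter]
    exact Finset.sum_comm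
  have hrow : ∀ l ∈ Fx, (Mv.filter fun p => S.inc p l).card = (S.n + 1) - (m + 1) := by
    intro l hl'
    rw [← hl l (Finset.mem_filter.1 hl').2, ← S.card_line l,
      ← Set.ncard_sdiff (fun p hp => hp.1) (Set.toFinite _), ← Set.ncard_coe_finset]
    congr 1
    ext p
    simp [Mv]
    tauto
  have hMv : Mv.card + (m ^ 2 + m + 1) = S.n ^ 2 + S.n + 1 := by
    rw [← hF, ← S.card_P, ← Set.ncard_coe_finset,
      show {p : P | g • p = p} = (Mv : Set P)ᶜ by ext p; simp [Mv], Set.ncard_add_ncard_compl]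
  have hFx : Fx.card = m ^ 2 + m + 1 := by
    rw [← hFL, ← Set.ncard_coe_finset]
    congr 1
    ext l
    simp [Fx]
  rw [Finset.sum_congr rfl hrow, Finset.sum_const, smul_eq_mul, hFx] at hcount
  have hle : m ≤ S.n := by
    rcases Nat.lt_or_ge S.n m with h | h
    · nlinarith
    · exact h
  obtain ⟨d, hd⟩ : ∃ d, S.n = m + d := ⟨S.n - m, by omega⟩
  rw [hd, show m + d + 1 - (m + 1) = d by omega] at hcount
  rw [hd, ← hcount] at hMv
  rcases Nat.eq_zero_or_pos d with rfl | hpos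
  · exfalso
    refine h1 (S.faith g fun p => ?_)
    by_contra hp
    have : p ∈ Mv := by simp [Mv, hp]
    have h0 : Mv.card = 0 := by rw [← hcount]; simp
    rw [Finset.card_eq_zero.1 h0] at this
    simp at this
  have hk : d + m = m ^ 2 := Nat.eq_of_mul_eq_mul_left hpos (by nlinarith [hMv])
  omega

end Geo

end Cfsg.Agent.OstromWagner
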