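import Cfsg.Agent.Lib.OstromWagner.Trans
import Cfsg.Agent.Lib.OstromWagner.Subplane

/-!
# Planes without perspectivities: even order and prime power order

In a doubly transitive plane without nontrivial perspectivities all involutions are Baer, the order
is an odd square, and it is not a prime power.
-/

set_option autoImplicit false
set_option linter.unusedSectionVars false
set_option linter.unusedVariables false

open scoped Classical
open MulAction

namespace Cfsg.Agent.OstromWagner.Geo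

variable {Γ P L : Type*} [Group Γ] [MulAction Γ P] [MulAction Γ L] (S : Geo Γ P L) [Finite P] [Finite L]

theorem card_pair_stab (h2 : ∀ p₁ p₂ q₁ q₂ : P, p₁ ≠ p₂ → q₁ ≠ q₂ → ∃ g : Γ, g • p₁ = q₁ ∧ g • p₂ = q₂)
    {d e : P} (h : d ≠ e) :
    Nat.card (stabilizer Γ (d, e)) * ((S.n ^ 2 + S.n + 1) * (S.n ^ 2 + S.n)) = Nat.card Γ := by
  have horb : orbit Γ (d, e) = {x : P × P | x.1 ≠ x.2} := by
    ext ⟨a, b⟩
    constructor
    · rintro ⟨g, hg⟩
      have h1 : g • d = a := congrArg Prod.fst hg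
      have h3 : g • e = b := congrArg Prod.snd hg
      show a ≠ b
      rw [← h1, ← h3]
      exact fun e' => h (MulAction.injective g e')
    · intro hab
      obtain ⟨g, h1, h3⟩ := h2 d e a b h hab
      exact ⟨g, Prod.ext h1 h3⟩
  have hoff : {x : P × P | x.1 ≠ x.2}.ncard = (S.n ^ 2 + S.n + 1) * (S.n ^ 2 + S.n) := by
    have := Fintype.ofFinite P
    rw [show {x : P × P | x.1 ≠ x.2} = ((Finset.univ : Finset P).offDiag : Set (P × P)) by ext x; simp,
      Set.ncard_coe_finset, Finset.offDiag_card, Finset.card_univ, ← Nat.card_eq_fintype_card, S.card_P,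
      ← Nat.mul_sub_one]
    rfl
  rw [← Subgroup.card_mul_index (stabilizer Γ (d, e)), index_stabilizer, horb, hoff]

variable (hno : ∀ (g : Γ) (A : L), S.Ax g A → g = 1)

include hno in
theorem no_centre {g : Γ} {C : P} (hC : S.Cen g C) : g = 1 :=
  let ⟨A, hA⟩ := S.exists_axis hC
  hno g A hA

include hno in
/-- An involution fixes a plane of order `m` with `n = m ^ 2`. -/
theorem baer {g : Γ} (hsq : g * g = 1) (h1 : g ≠ 1) :
    ∃ m, S.n = m ^ 2 ∧ ∀ l : L, g • l = l → {p | S.inc p l ∧ g • p = p}.ncard = m + 1 := by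
  rcases S.quad_or_ax hsq h1 with ⟨A, hA⟩ | hq
  · exact absurd (hno g A hA) h1
  have hset : {p | g • p = p} = FP (Subgroup.zpowers g) S := Set.ext fun p => S.mem_FP_zpowers.symm
  rw [hset] at hq
  obtain ⟨T, hT⟩ := S.exists_sub hq
  have hl : ∀ l : L, g • l = l → {p | S.inc p l ∧ g • p = p}.ncard = T.n + 1 := by
    intro l hl
    rw [← T.card_line ⟨l, S.mem_FL_zpowers.2 hl⟩, hT,
      ← Set.ncard_image_of_injective _ Subtype.val_injective]
    congr 1
    ext p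
    constructor
    · rintro ⟨hp, hgp⟩
      exact ⟨⟨p, S.mem_FP_zpowers.2 hgp⟩, hp, rfl⟩
    · rintro ⟨q, hq', rfl⟩
      exact ⟨hq', S.mem_FP_zpowers.1 q.2⟩
  refine ⟨T.n, S.sq_order hsq h1 ?_ ?_ hl, hl⟩
  · rw [hset, ← T.card_P, Nat.card_coe_set_eq]
  · rw [← T.card_L, Nat.card_coe_set_eq]
    congr 1
    exact Set.ext fun l => S.mem_FL_zpowers.symm

variable (h2 : ∀ p₁ p₂ q₁ q₂ : P, p₁ ≠ p₂ → q₁ ≠ q₂ → ∃ g : Γ, g • p₁ = q₁ ∧ g • p₂ = q₂)

include S h2 in
theorem exists_involution : ∃ g : Γ, g * g = 1 ∧ g ≠ 1 := by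
  have := S.finite_group
  obtain ⟨a, -, b, -, -, -, -, -, hab, -⟩ := S.quad_univ
  have h := S.card_pair_stab h2 hab
  have hdvd : 2 ∣ Nat.card Γ := by
    rw [← h]
    refine dvd_mul_of_dvd_right (dvd_mul_of_dvd_right ?_ _) _
    rw [show S.n ^ 2 + S.n = S.n * (S.n + 1) by ring]
    exact (Nat.even_mul_succ_self S.n).two_dvd
  have := Fact.mk Nat.prime_two
  obtain ⟨g, hg⟩ := exists_prime_orderOf_dvd_card' 2 hdvd
  refine ⟨g, ?_, fun e => ?_⟩
  · rw [← sq, ← hg, pow_orderOf_eq_one]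
  · rw [e, orderOf_one] at hg
    omega

include h2 in
/-- A Sylow subgroup for a prime dividing the order fixes a flag. -/
theorem sylow_flag {p : ℕ} [Fact p.Prime] (hpn : p ∣ S.n) (Q : Sylow p Γ) :
    ∃ x l, S.inc x l ∧ (∀ q ∈ (Q : Subgroup Γ), q • x = x) ∧ (∀ q ∈ (Q : Subgroup Γ), q • l = l) ∧
      ∀ y, S.inc y l → y ≠ x → ∀ e, p ^ e ∣ S.n → p ^ e ∣ (orbit (Q : Subgroup Γ) y).ncard := by
  have := S.finite_group
  have hp : p.Prime := Fact.out
  have h1 : ¬ p ∣ S.n + 1 := fun h => hp.not_dvd_one ((Nat.dvd_add_right hpn).1 h)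
  obtain ⟨x, -, hx⟩ := exists_fixed_in hp (Q : Subgroup Γ) Q.2 (Set.univ : Set P)
    (fun _ _ _ _ => trivial) (by
      rw [Set.ncard_univ, S.card_P, show S.n ^ 2 + S.n + 1 = S.n * (S.n + 1) + 1 by ring]
      exact fun h => hp.not_dvd_one ((Nat.dvd_add_right (hpn.mul_right _)).1 h))
  obtain ⟨l, hxl, hl⟩ := exists_fixed_in hp (Q : Subgroup Γ) Q.2 {l : L | S.inc x l}
    (fun q hq l hl => (S.inc_fix_smul (hx q hq) l).2 hl) (by rw [S.card_pencil]; exact h1)
  refine ⟨x, l, hxl, hx, hl, fun y hy hyx e he => ?_⟩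
  let K : Subgroup Γ := stabilizer Γ x ⊓ stabilizer Γ l
  have hQK : (Q : Subgroup Γ) ≤ K := fun q hq => ⟨hx q hq, hl q hq⟩
  refine dvd_orbit hp hQK Q.2 (fun j hj => ?_) y ?_
  · exact Q.pow_dvd_card_of_pow_dvd_card (hj.trans (Subgroup.card_subgroup_dvd_card K))
  · have : orbit K y = {q | S.inc q l} \ {x} := by
      ext q
      constructor
      · rintro ⟨⟨k, hkx, hkl⟩, rfl⟩
        refine ⟨(S.inc_smul_fix hkl y).2 hy, fun h => hyx ?_⟩
        exact MulAction.injective k ((show k • y = x from h).trans hkx.symm)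
      · rintro ⟨hq, hqx⟩
        obtain ⟨g, hgl, hgx, hgy⟩ := S.trans_line2 h2 hxl hy hxl hq hyx.symm (Ne.symm hqx)
        exact ⟨⟨g, hgx, hgl⟩, hgy⟩
    rw [this, S.ncard_line_sdiff hxl]
    exact he

include hno h2 in
/-- The order is odd. -/
theorem odd_order : Odd S.n := by
  have := S.finite_group
  by_contra hodd
  rw [Nat.not_odd_iff_even] at hodd
  have := Fact.mk Nat.prime_two
  obtain ⟨g, hg, hg1⟩ := S.exists_involution h2
  obtain ⟨Q⟩ : Nonempty (Sylow 2 Γ) := inferInstance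
  obtain ⟨x, l, hxl, hx, hl, horb⟩ := S.sylow_flag h2 hodd.two_dvd Q
  have hQ1 : Nontrivial (Q : Subgroup Γ) := by
    rw [← Finite.one_lt_card_iff_nontrivial]
    have h2d : 2 ∣ Nat.card Γ := by
      have := orderOf_dvd_natCard g
      rwa [orderOf_eq_prime (by rw [sq, hg]) hg1] at this
    have := Nat.le_of_dvd Nat.card_pos (Q.pow_dvd_card_of_pow_dvd_card (n := 1) (by simpa using h2d))
    omega
  have := Q.2.center_nontrivial
  have hz : IsPGroup 2 (Subgroup.center (Q : Subgroup Γ)) := Q.2.to_subgroup _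
  obtain ⟨k, hk⟩ := IsPGroup.iff_card.1 hz
  have hk0 : 2 ∣ Nat.card (Subgroup.center (Q : Subgroup Γ)) := by
    rw [hk]
    refine dvd_pow_self 2 fun h => ?_
    have := Finite.one_lt_card_iff_nontrivial.2 ‹Nontrivial (Subgroup.center (Q : Subgroup Γ))›
    rw [hk, h] at this
    omega
  obtain ⟨⟨⟨z, hzQ⟩, hzc⟩, hzo⟩ := exists_prime_orderOf_dvd_card' 2 hk0
  have hzz : z * z = 1 := by
    have := pow_orderOf_eq_one (⟨⟨z, hzQ⟩, hzc⟩ : Subgroup.center (Q : Subgroup Γ))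
    rw [hzo, sq] at this
    simpa using congrArg (fun v : Subgroup.center (Q : Subgroup Γ) => ((v : (Q : Subgroup Γ)) : Γ)) this
  have hz1 : z ≠ 1 := fun e => by
    subst e
    rw [show (⟨⟨1, hzQ⟩, hzc⟩ : Subgroup.center (Q : Subgroup Γ)) = 1 from rfl, orderOf_one] at hzo
    omega
  have hcomm : ∀ q ∈ (Q : Subgroup Γ), q * z = z * q := fun q hq =>
    congrArg Subtype.val (Subgroup.mem_center_iff.1 hzc ⟨q, hq⟩)
  obtain ⟨m, hnm, hfix⟩ := S.baer hno hzz hz1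
  let Y := {q | S.inc q l ∧ z • q = q} \ {x}
  have hY : Y.ncard = m := by
    rw [Set.ncard_sdiff_singleton_of_mem (show x ∈ {q | S.inc q l ∧ z • q = q} from ⟨hxl, hx z hzQ⟩),
      hfix l (hl z hzQ)]
    omega
  have hinv : ∀ q ∈ (Q : Subgroup Γ), ∀ y ∈ Y, q • y ∈ Y := by
    rintro q hq y ⟨⟨hy, hzy⟩, hyx⟩
    refine ⟨⟨(S.inc_smul_fix (hl q hq) y).2 hy, by rw [← mul_smul, ← hcomm q hq, mul_smul, hzy]⟩, ?_⟩
    exact fun h => hyx (MulAction.injective q ((show q • y = x from h).trans (hx q hq).symm))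
  have hm0 : m ≠ 0 := by
    rintro rfl
    have := S.one_lt
    simp [hnm] at this
  have hdvd : ∀ e, 2 ^ e ∣ S.n → 2 ^ e ∣ m := fun e he =>
    hY ▸ dvd_ncard_of_orbits _ Y hinv fun y hy => horb y hy.1.1 hy.2 e he
  have hm2 : 2 ∣ m := Nat.prime_two.dvd_of_dvd_pow (show 2 ∣ m ^ 2 from hnm ▸ hodd.two_dvd)
  obtain ⟨j, o, ho, rfl⟩ := Nat.exists_eq_pow_mul_and_not_dvd hm0 2 (by norm_num)
  have hd := hdvd (2 * j) ⟨o ^ 2, by rw [hnm]; ring⟩
  rcases Nat.eq_zero_or_pos j with rfl | hj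
  · rw [pow_zero, one_mul] at hm2
    exact ho hm2
  · rw [two_mul, pow_add] at hd
    exact ho ((dvd_pow_self 2 hj.ne').trans (Nat.dvd_of_mul_dvd_mul_left (Nat.two_pow_pos j) hd))

include hno h2 in
/-- The order is not a prime power. -/
theorem not_isPrimePow : ¬ IsPrimePow S.n := by
  rintro ⟨p, e, hp', he0, hn⟩
  have hp : p.Prime := Nat.prime_iff.2 hp'
  have := Fact.mk hp
  have := S.finite_group
  have hodd := S.odd_order hno h2
  have hpn : p ∣ S.n := hn ▸ dvd_pow_self p he0.ne'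
  have hp2 : p ≠ 2 := fun h => hodd.not_two_dvd_nat (h ▸ hpn)
  obtain ⟨Q⟩ : Nonempty (Sylow p Γ) := inferInstance
  obtain ⟨x, l, hxl, hx, hl, horb⟩ := S.sylow_flag h2 hpn Q
  have htrans : ∀ a a', S.inc a l → a ≠ x → S.inc a' l → a' ≠ x →
      ∃ q ∈ (Q : Subgroup Γ), q • a = a' := by
    intro a a' ha hax ha' hax'
    have hsub : orbit (Q : Subgroup Γ) a ⊆ {q | S.inc q l} \ {x} := by
      rintro _ ⟨⟨q, hq⟩, rfl⟩
      refine ⟨(S.inc_smul_fix (hl q hq) a).2 ha, fun h => hax ?_⟩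
      exact MulAction.injective q ((show q • a = x from h).trans (hx q hq).symm)
    have heq := Set.eq_of_subset_of_ncard_le hsub (by
      rw [S.ncard_line_sdiff hxl, ← hn]
      exact Nat.le_of_dvd ((Set.ncard_pos (Set.toFinite _)).2 ⟨a, mem_orbit_self a⟩)
        (horb a ha hax e (dvd_of_eq hn))) (Set.toFinite _)
    obtain ⟨⟨q, hq⟩, h⟩ : a' ∈ orbit (Q : Subgroup Γ) a := by rw [heq]; exact ⟨ha', hax'⟩
    exact ⟨q, hq, h⟩
  obtain ⟨b, hb, hbx, -⟩ := S.exists_line_avoid l x x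
  -- the stabilisers of points of `l` in `Q`
  have horbn : ∀ a, S.inc a l → a ≠ x → (orbit (Q : Subgroup Γ) a).ncard = S.n := by
    intro a ha hax
    rw [← S.ncard_line_sdiff hxl]
    congr 1
    ext c
    constructor
    · rintro ⟨⟨q, hq⟩, rfl⟩
      refine ⟨(S.inc_smul_fix (hl q hq) a).2 ha, fun h => hax ?_⟩
      exact MulAction.injective q ((show q • a = x from h).trans (hx q hq).symm)
    · rintro ⟨hc, hcx⟩
      obtain ⟨q, hq, h⟩ := htrans a c ha hax hc hcx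
      exact ⟨⟨q, hq⟩, h⟩
  let R : Subgroup Γ := (Q : Subgroup Γ) ⊓ stabilizer Γ b
  have hQa : ∀ a, S.inc a l → a ≠ x →
      Nat.card ((Q : Subgroup Γ) ⊓ stabilizer Γ a : Subgroup Γ) * S.n = Nat.card (Q : Subgroup Γ) := by
    intro a ha hax
    have e1 : stabilizer (Q : Subgroup Γ) a = (stabilizer Γ a).subgroupOf Q :=
      Subgroup.ext fun _ => Iff.rfl
    rw [← Subgroup.card_mul_index (stabilizer (Q : Subgroup Γ) a), index_stabilizer, horbn a ha hax, e1,
      ← Nat.card_congr (Subgroup.subgroupOfEquivOfLe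
        (inf_le_left : (Q : Subgroup Γ) ⊓ stabilizer Γ a ≤ Q)).toEquiv, Subgroup.inf_subgroupOf_left]
  have hR := hQa b hb hbx
  have hRQ : R ≤ (Q : Subgroup Γ) := inf_le_left
  have hRp : IsPGroup p R := Q.2.to_le hRQ
  -- `R` is a Sylow subgroup of the stabiliser of `x` and `b`
  let K := stabilizer Γ (x, b)
  have hRK : R ≤ K := fun r hr => Prod.ext (hx r (hRQ hr)) hr.2
  have hsylR : ∀ j, p ^ j ∣ Nat.card K → p ^ j ∣ Nat.card R := by
    intro j hj
    have h := S.card_pair_stab h2 hbx.symm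
    have h' : p ^ (j + e) ∣ Nat.card Γ := by
      rw [← h, pow_add]
      refine mul_dvd_mul hj (dvd_mul_of_dvd_right ?_ _)
      rw [hn]
      exact dvd_add (dvd_pow_self _ (by norm_num)) dvd_rfl
    have h3 := Q.pow_dvd_card_of_pow_dvd_card h'
    rw [← hR, pow_add, ← hn] at h3
    exact Nat.dvd_of_mul_dvd_mul_right (pow_pos hp.pos e) h3
  -- `R` is transitive on the other lines through `x`
  have hpencil : ∀ k k', S.inc x k → k ≠ l → S.inc x k' → k' ≠ l → ∃ r ∈ R, r • k = k' := by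
    intro k k' hk hkl hk' hkl'
    have hK : orbit K k = {m | S.inc x m} \ {l} := by
      ext m
      constructor
      · rintro ⟨⟨g, hg⟩, rfl⟩
        have hgx : g • x = x := congrArg Prod.fst hg
        have hgb : g • b = b := congrArg Prod.snd hg
        have hgl : g • l = l := S.fix_line hbx.symm hgx hgb hxl hb
        refine ⟨(S.inc_fix_smul hgx k).2 hk, fun h => hkl ?_⟩
        exact MulAction.injective g ((show g • k = l from h).trans hgl.symm)
      · rintro ⟨hm, hml⟩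
        obtain ⟨g, h1, h3, h4⟩ := S.trans_pencil_pair h2 hbx hxl hb hk hkl hm hml
        exact ⟨⟨g, Prod.ext h1 h3⟩, h4⟩
    have hd := dvd_orbit hp hRK hRp hsylR k (e := e) (by rw [hK, S.ncard_pencil_sdiff hxl, hn])
    have hsub : orbit R k ⊆ {m | S.inc x m} \ {l} := by
      rw [← hK]
      rintro _ ⟨⟨r, hr⟩, rfl⟩
      exact ⟨⟨r, hRK hr⟩, rfl⟩
    have heq := Set.eq_of_subset_of_ncard_le hsub (by
      rw [S.ncard_pencil_sdiff hxl, ← hn]
      exact Nat.le_of_dvd ((Set.ncard_pos (Set.toFinite _)).2 ⟨k, mem_orbit_self k⟩) hd) (Set.toFinite _)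
    obtain ⟨⟨r, hr⟩, h⟩ : k' ∈ orbit R k := by rw [heq]; exact ⟨hk', hkl'⟩
    exact ⟨r, hr, h⟩
  -- exchanging `x` and `b` and normalising `R`
  obtain ⟨t, htx, htb, htR⟩ : ∃ t : Γ, t • x = b ∧ t • b = x ∧
      ∀ r ∈ R, t * r * t⁻¹ ∈ R ∧ t⁻¹ * r * t ∈ R := by
    obtain ⟨g, hgx, hgb⟩ := h2 x b b x hbx.symm hbx
    let R' : Subgroup Γ := R.map (MulAut.conj g).toMonoidHom
    have hR'K : R' ≤ K := by
      rintro _ ⟨r, hr, rfl⟩
      refine Prod.ext ?_ ?_
      · show (g * r * g⁻¹) • x = x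
        rw [mul_smul, mul_smul, inv_smul_eq_iff.2 hgb.symm, hr.2, hgb]
      · show (g * r * g⁻¹) • b = b
        rw [mul_smul, mul_smul, inv_smul_eq_iff.2 hgx.symm, hx r (hRQ hr), hgx]
    have hR'c : Nat.card R' = Nat.card R := Subgroup.card_map_of_injective (MulAut.conj g).injective
    obtain ⟨i, hi⟩ := IsPGroup.iff_card.1 hRp
    have hfac : Nat.card R = p ^ (Nat.card K).factorization p := by
      have h1 : p ^ i ∣ Nat.card K := hi ▸ Subgroup.card_dvd_of_le hRK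
      have h3 := hsylR _ (Nat.ordProj_dvd (Nat.card K) p)
      rw [hi] at h3 ⊢
      rw [Nat.pow_dvd_pow_iff_le_right hp.one_lt] at h3
      have := (hp.pow_dvd_iff_le_factorization Nat.card_pos.ne').1 h1
      rw [le_antisymm h3 this]
    let S₁ : Sylow p K := Sylow.ofCard (R.subgroupOf K) (by
      rw [Nat.card_congr (Subgroup.subgroupOfEquivOfLe hRK).toEquiv, hfac])
    let S₂ : Sylow p K := Sylow.ofCard (R'.subgroupOf K) (by
      rw [Nat.card_congr (Subgroup.subgroupOfEquivOfLe hR'K).toEquiv, hR'c, hfac])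
    obtain ⟨⟨h, hh⟩, hhS⟩ := MulAction.exists_smul_eq K S₂ S₁
    have hconv : ∀ r ∈ R', h * r * h⁻¹ ∈ R := by
      intro r hr
      have h3 : (MulAut.conj (⟨h, hh⟩ : K)) ⟨r, hR'K hr⟩ ∈ (R.subgroupOf K) := by
        have : (MulAut.conj (⟨h, hh⟩ : K)) ⟨r, hR'K hr⟩ ∈ ((⟨h, hh⟩ : K) • S₂ : Sylow p K).toSubgroup :=
          Subgroup.smul_mem_pointwise_smul (⟨r, hR'K hr⟩ : K) (MulAut.conj (⟨h, hh⟩ : K)) _
            (show (⟨r, hR'K hr⟩ : K) ∈ R'.subgroupOf K from hr)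
        rw [hhS] at this
        exact this
      exact h3
    refine ⟨h * g, ?_, ?_, ?_⟩
    · rw [mul_smul, hgx]; exact congrArg Prod.snd hh
    · rw [mul_smul, hgb]; exact congrArg Prod.fst hh
    have hle : R.map (MulAut.conj (h * g)).toMonoidHom ≤ R := by
      rintro _ ⟨r, hr, rfl⟩
      have := hconv _ ⟨r, hr, rfl⟩
      convert this using 1
      show h * g * r * (h * g)⁻¹ = h * (g * r * g⁻¹) * h⁻¹
      group
    have heqR := Subgroup.eq_of_le_of_card_ge hle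
      (Subgroup.card_map_of_injective (MulAut.conj (h * g)).injective).ge
    intro r hr
    refine ⟨hle ⟨r, hr, rfl⟩, ?_⟩
    obtain ⟨r', hr', rfl⟩ : r ∈ R.map (MulAut.conj (h * g)).toMonoidHom := by rw [heqR]; exact hr
    rwa [show (h * g)⁻¹ * ((MulAut.conj (h * g)).toMonoidHom r') * (h * g) = r' by
      show (h * g)⁻¹ * (h * g * r' * (h * g)⁻¹) * (h * g) = r'
      group]
  have htl : t • l = l := S.eq_line hbx.symm
    (by rw [← htb]; exact (S.smul_inc t b l).2 hb) (by rw [← htx]; exact (S.smul_inc t x l).2 hxl) hxl hb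
  -- a central element of `Q` moving `b`
  have hQ1 : Nontrivial (Q : Subgroup Γ) := by
    rw [← Finite.one_lt_card_iff_nontrivial, ← hR]
    calc 1 < 1 * S.n := by simpa using S.one_lt
      _ ≤ _ := Nat.mul_le_mul_right _ Nat.card_pos
  have := Q.2.center_nontrivial
  obtain ⟨⟨⟨z, hzQ⟩, hzc⟩, hz1'⟩ := exists_ne (1 : Subgroup.center (Q : Subgroup Γ))
  have hz1 : z ≠ 1 := fun e => hz1' (Subtype.ext (Subtype.ext e))
  have hcomm : ∀ q ∈ (Q : Subgroup Γ), q * z = z * q := fun q hq =>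
    congrArg Subtype.val (Subgroup.mem_center_iff.1 hzc ⟨q, hq⟩)
  have hzb : z • b ≠ b := by
    intro hzb
    refine hz1 (hno z l fun a ha => ?_)
    by_cases hax : a = x
    · rw [hax, hx z hzQ]
    obtain ⟨q, hq, rfl⟩ := htrans b a hb hbx ha hax
    rw [← mul_smul, ← hcomm q hq, mul_smul, hzb]
  let C : Subgroup Γ := Subgroup.centralizer (R : Set Γ) ⊓ stabilizer Γ l
  have hmemC : ∀ {c : Γ}, c ∈ C ↔ (∀ r ∈ R, r * c = c * r) ∧ c • l = l := fun {c} =>
    Iff.and Subgroup.mem_centralizer_iff Iff.rfl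
  have hz' : t * z * t⁻¹ ∈ C := by
    refine hmemC.2 ⟨fun r hr => ?_, ?_⟩
    · have h := hcomm _ (hRQ (htR r hr).2)
      calc r * (t * z * t⁻¹) = t * ((t⁻¹ * r * t) * z) * t⁻¹ := by group
        _ = t * (z * (t⁻¹ * r * t)) * t⁻¹ := by rw [h]
        _ = _ := by group
    · rw [mul_smul, mul_smul, inv_smul_eq_iff.2 htl.symm, hl z hzQ, htl]
  have hz'x : (t * z * t⁻¹) • x ≠ x := by
    rw [mul_smul, mul_smul, inv_smul_eq_iff.2 htb.symm, ← htb]
    exact fun h => hzb (MulAction.injective t h)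
  let Λ : Set P := {y | S.inc y l ∧ ∀ r ∈ R, r • y = y}
  have hxΛ : x ∈ Λ := ⟨hxl, fun r hr => hx r (hRQ hr)⟩
  have hbΛ : b ∈ Λ := ⟨hb, fun r hr => hr.2⟩
  have hCΛ : ∀ c ∈ C, ∀ y ∈ Λ, c • y ∈ Λ := by
    rintro c hc y ⟨hy, hyR⟩
    obtain ⟨h1, h3⟩ := hmemC.1 hc
    exact ⟨(S.inc_smul_fix h3 y).2 hy, fun r hr => by rw [← mul_smul, h1 r hr, mul_smul, hyR r hr]⟩
  -- `N` moves `b` to every other point of `Λ`
  have hN : ∀ a y, a ∈ Λ → a ≠ x → y ∈ Λ → y ≠ x →
      ∃ q ∈ (Q : Subgroup Γ), q • a = y ∧ ∀ r ∈ R, q⁻¹ * r * q ∈ R ∧ q * r * q⁻¹ ∈ R := by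
    intro a y ha hax hy hyx
    obtain ⟨q, hq, hqa⟩ := htrans a y ha.1 hax hy.1 hyx
    have heq : ∀ c ∈ Λ, c ≠ x → R = (Q : Subgroup Γ) ⊓ stabilizer Γ c := by
      intro c hc hcx
      refine Subgroup.eq_of_le_of_card_ge (fun r hr => ⟨hRQ hr, hc.2 r hr⟩) ?_
      exact le_of_eq (Nat.eq_of_mul_eq_mul_right (by have := S.one_lt; omega)
        ((hQa c hc.1 hcx).trans hR.symm))
    refine ⟨q, hq, hqa, fun r hr => ⟨?_, ?_⟩⟩
    · rw [heq a ha hax]
      refine ⟨(Q : Subgroup Γ).mul_mem ((Q : Subgroup Γ).mul_mem ((Q : Subgroup Γ).inv_mem hq) (hRQ hr)) hq, ?_⟩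
      show (q⁻¹ * r * q) • a = a
      rw [mul_smul, mul_smul, hqa, hy.2 r hr, inv_smul_eq_iff, hqa]
    · rw [heq y hy hyx]
      refine ⟨(Q : Subgroup Γ).mul_mem ((Q : Subgroup Γ).mul_mem hq (hRQ hr)) ((Q : Subgroup Γ).inv_mem hq), ?_⟩
      show (q * r * q⁻¹) • y = y
      rw [mul_smul, mul_smul, inv_smul_eq_iff.2 hqa.symm, ha.2 r hr, hqa]
  have htransC : ∀ y ∈ Λ, ∃ c ∈ C, c • x = y := by
    intro y hy
    by_cases hyx : y = x
    · exact ⟨1, one_mem _, by rw [one_smul, hyx]⟩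
    obtain ⟨q, hq, hqa, hqR⟩ := hN _ y (hCΛ _ hz' x hxΛ) hz'x hy hyx
    refine ⟨q * (t * z * t⁻¹) * q⁻¹, hmemC.2 ⟨fun r hr => ?_, ?_⟩, ?_⟩
    · have h := (hmemC.1 hz').1 _ (hqR r hr).1
      calc r * (q * (t * z * t⁻¹) * q⁻¹) = q * ((q⁻¹ * r * q) * (t * z * t⁻¹)) * q⁻¹ := by group
        _ = q * ((t * z * t⁻¹) * (q⁻¹ * r * q)) * q⁻¹ := by rw [h]
        _ = _ := by group
    · rw [mul_smul, mul_smul, inv_smul_eq_iff.2 (hl q hq).symm, (hmemC.1 hz').2, hl q hq]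
    · rw [mul_smul, mul_smul, inv_smul_eq_iff.2 (hx q hq).symm, hqa]
  -- `Λ` has even size
  have hΛ : 2 ∣ Λ.ncard := by
    let N : Subgroup Γ := (Q : Subgroup Γ) ⊓ Subgroup.normalizer (R : Set Γ)
    have hNorb : orbit N b = Λ \ {x} := by
      ext y
      constructor
      · rintro ⟨⟨q, hq⟩, rfl⟩
        obtain ⟨hqQ, hqn⟩ := hq
        refine ⟨⟨(S.inc_smul_fix (hl q hqQ) b).2 hb, fun r hr => ?_⟩, fun h => hbx ?_⟩
        · have h1 : q⁻¹ * r * q ∈ R := by
            have := (Subgroup.mem_normalizer_iff.1 hqn (q⁻¹ * r * q)).2 (by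
              rw [show q * (q⁻¹ * r * q) * q⁻¹ = r by group]; exact hr)
            exact this
          show r • q • b = q • b
          calc r • q • b = q • ((q⁻¹ * r * q) • b) := by rw [smul_smul, smul_smul]; congr 1; group
            _ = q • b := by rw [h1.2]
        · exact MulAction.injective q ((show q • b = x from h).trans (hx q hqQ).symm)
      · rintro ⟨hy, hyx⟩
        obtain ⟨q, hq, hqb, hqR⟩ := hN b y hbΛ hbx hy hyx
        refine ⟨⟨q, hq, Subgroup.mem_normalizer_iff.2 fun r => ⟨fun hr => (hqR r hr).2, fun hr => ?_⟩⟩, hqb⟩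
        have := (hqR _ hr).1
        rwa [show q⁻¹ * (q * r * q⁻¹) * q = r by group] at this
    obtain ⟨i, hi⟩ := (Q.2.to_le (inf_le_left : N ≤ _)).card_orbit b
    rw [Nat.card_coe_set_eq, hNorb, Set.ncard_sdiff_singleton_of_mem hxΛ] at hi
    have hpodd : Odd (p ^ i) := (hp.odd_of_ne_two hp2).pow
    rw [← hi] at hpodd
    obtain ⟨c, hc⟩ := hpodd
    omega
  have hCeven : 2 ∣ Nat.card C := by
    have horbC : orbit C x = Λ := by
      ext y
      constructor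
      · rintro ⟨⟨c, hc⟩, rfl⟩; exact hCΛ c hc x hxΛ
      · intro hy
        obtain ⟨c, hc, h⟩ := htransC y hy
        exact ⟨⟨c, hc⟩, h⟩
    refine hΛ.trans ?_
    rw [← horbC, ← index_stabilizer]
    exact Subgroup.index_dvd_card _
  have := Fact.mk Nat.prime_two
  obtain ⟨⟨i, hiC⟩, hio⟩ := exists_prime_orderOf_dvd_card' 2 hCeven
  have hio' : orderOf i = 2 := by rwa [← Subgroup.orderOf_coe] at hio
  have hii : i * i = 1 := by rw [← sq, ← hio', pow_orderOf_eq_one]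
  have hi1 : i ≠ 1 := fun e => by rw [e, orderOf_one] at hio'; omega
  -- involutions of `C` fix no point of `Λ`
  have hmove : ∀ j ∈ C, j * j = 1 → j ≠ 1 → j • x ≠ x := by
    intro j hj hjj hj1 hjx
    obtain ⟨hjR, hjl⟩ := hmemC.1 hj
    obtain ⟨k, ⟨hk, hkl⟩, hjk⟩ : ∃ k ∈ {m | S.inc x m} \ {l}, ∀ q ∈ Subgroup.zpowers j, q • k = k := by
      refine exists_fixed_in Nat.prime_two _ (IsPGroup.of_card (n := 1) ?_) _ ?_ ?_
      · rw [Nat.card_zpowers, pow_one]
        exact orderOf_eq_prime (by rw [sq, hjj]) hj1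
      · intro q hq m hm
        have hqs : q ∈ stabilizer Γ x ⊓ stabilizer Γ l :=
          Subgroup.zpowers_le.2 (show j ∈ stabilizer Γ x ⊓ stabilizer Γ l from ⟨hjx, hjl⟩) hq
        refine ⟨(S.inc_fix_smul hqs.1 m).2 hm.1, fun h => hm.2 ?_⟩
        exact MulAction.injective q ((show q • m = l from h).trans hqs.2.symm)
      · rw [S.ncard_pencil_sdiff hxl]
        exact hodd.not_two_dvd_nat
    refine hj1 (S.no_centre hno (C := x) fun m hm => ?_)
    by_cases hml : m = l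
    · rw [hml, hjl]
    obtain ⟨r, hr, rfl⟩ := hpencil k m hk hkl hm hml
    rw [← mul_smul, ← hjR r hr, mul_smul, hjk j (Subgroup.mem_zpowers j)]
  have hmoveΛ : ∀ y ∈ Λ, i • y ≠ y := by
    intro y hy hiy
    obtain ⟨c, hc, rfl⟩ := htransC y hy
    refine hmove (c⁻¹ * i * c) (mul_mem (mul_mem (inv_mem hc) hiC) hc) ?_ ?_ ?_
    · rw [show c⁻¹ * i * c * (c⁻¹ * i * c) = c⁻¹ * (i * i) * c by group, hii, mul_one, inv_mul_cancel]
    · intro h
      apply hi1
      have e : i = c * (c⁻¹ * i * c) * c⁻¹ := by group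
      rw [e, h, mul_one, mul_inv_cancel]
    · rw [mul_smul, mul_smul, hiy, inv_smul_smul]
  obtain ⟨m, hnm, hfix⟩ := S.baer hno hii hi1
  have hpm : p ∣ m := hp.dvd_of_dvd_pow (show p ∣ m ^ 2 from hnm ▸ hpn)
  have hpm1 : p ∣ m + 1 := by
    rw [← hfix l (hmemC.1 hiC).2]
    have hinv : ∀ r ∈ R, ∀ y ∈ {y | S.inc y l ∧ i • y = y}, r • y ∈ {y | S.inc y l ∧ i • y = y} := by
      rintro r hr y ⟨hy, hiy⟩
      exact ⟨(S.inc_smul_fix (hl r (hRQ hr)) y).2 hy,
        by rw [← mul_smul, ← (hmemC.1 hiC).1 r hr, mul_smul, hiy]⟩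
    by_contra hnd
    obtain ⟨y, ⟨hy, hiy⟩, hyR⟩ := exists_fixed_in hp R hRp _ hinv hnd
    exact hmoveΛ y ⟨hy, hyR⟩ hiy
  exact hp.not_dvd_one ((Nat.dvd_add_right hpm).1 hpm1)

end Cfsg.Agent.OstromWagner.Geo
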