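import Mathlib

/-!
# Finite projective planes with a group of collineations

`Geo Γ P L` is a finite projective plane of order `n` on which `Γ` acts faithfully by collineations.
The structure is self-dual (`Geo.dual`). `Geo.ofAxioms` builds it from the axioms and a quadrangle,
`Coll` is the full collineation group.
-/

set_option autoImplicit false
set_option linter.unusedSectionVars false

open scoped Classical

namespace Cfsg.Agent.OstromWagner

/-- A finite projective plane of order `n` with a faithful group of collineations. -/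
structure Geo (Γ P L : Type*) [Group Γ] [MulAction Γ P] [MulAction Γ L] where
  inc : P → L → Prop
  n : ℕ
  one_lt : 1 < n
  line : ∀ p q, p ≠ q → ∃! l, inc p l ∧ inc q l
  point : ∀ l m, l ≠ m → ∃! p, inc p l ∧ inc p m
  card_line : ∀ l, {p | inc p l}.ncard = n + 1
  card_pencil : ∀ p, {l | inc p l}.ncard = n + 1
  card_P : Nat.card P = n ^ 2 + n + 1
  card_L : Nat.card L = n ^ 2 + n + 1
  smul_inc : ∀ (g : Γ) p l, inc (g • p) (g • l) ↔ inc p l
  faith : ∀ g : Γ, (∀ p : P, g • p = p) → g = 1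
  faithL : ∀ g : Γ, (∀ l : L, g • l = l) → g = 1

/-- Four points, no three of which are collinear. -/
def Quad {P L : Type*} (inc : P → L → Prop) (F : Set P) : Prop :=
  ∃ a ∈ F, ∃ b ∈ F, ∃ c ∈ F, ∃ d ∈ F, a ≠ b ∧ b ≠ c ∧ b ≠ d ∧ a ≠ d ∧
    ∀ l, ¬ (inc a l ∧ inc b l ∧ inc c l) ∧ ¬ (inc a l ∧ inc b l ∧ inc d l) ∧
      ¬ (inc a l ∧ inc c l ∧ inc d l) ∧ ¬ (inc b l ∧ inc c l ∧ inc d l)

section Coll

variable {P L : Type*} (inc : P → L → Prop)

/-- The collineation group of an incidence relation. -/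
def Coll : Subgroup (Equiv.Perm P × Equiv.Perm L) where
  carrier := {g | ∀ p l, inc (g.1 p) (g.2 l) ↔ inc p l}
  one_mem' := fun _ _ => Iff.rfl
  mul_mem' := fun {g h} hg hh p l => by
    rw [Prod.fst_mul, Prod.snd_mul, Equiv.Perm.mul_apply, Equiv.Perm.mul_apply, hg, hh]
  inv_mem' := fun {g} hg p l => by
    rw [← hg, Prod.fst_inv, Prod.snd_inv, Equiv.Perm.inv_def, Equiv.Perm.inv_def,
      Equiv.apply_symm_apply, Equiv.apply_symm_apply]

instance : MulAction (Coll inc) P where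
  smul g p := g.1.1 p
  one_smul _ := rfl
  mul_smul _ _ _ := rfl

instance : MulAction (Coll inc) L where
  smul g l := g.1.2 l
  one_smul _ := rfl
  mul_smul _ _ _ := rfl

theorem coll_smul (g : Coll inc) (p : P) : g • p = g.1.1 p := rfl

theorem coll_smul' (g : Coll inc) (l : L) : g • l = g.1.2 l := rfl

theorem coll_smul_inc (g : Coll inc) (p : P) (l : L) : inc (g • p) (g • l) ↔ inc p l := g.2 p l

theorem coll_faith (hext : ∀ l m : L, (∀ p, inc p l ↔ inc p m) → l = m) (g : Coll inc)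
    (h : ∀ p : P, g • p = p) : g = 1 := by
  apply Subtype.ext
  apply Prod.ext
  · exact Equiv.ext h
  · refine Equiv.ext fun l => hext _ _ fun p => ?_
    have := coll_smul_inc inc g p l
    rwa [h p] at this

/-- An element of `Coll` from a compatible pair of permutations. -/
def Coll.mk (σ : Equiv.Perm P) (τ : Equiv.Perm L) (h : ∀ p l, inc (σ p) (τ l) ↔ inc p l) : Coll inc :=
  ⟨(σ, τ), h⟩

end Coll

namespace Geo

variable {Γ P L : Type*} [Group Γ] [MulAction Γ P] [MulAction Γ L]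

/-- Build a plane from the axioms and a quadrangle. -/
theorem exists_ofAxioms [Finite P] [Finite L] (inc : P → L → Prop)
    (hline : ∀ p q, p ≠ q → ∃! l, inc p l ∧ inc q l)
    (hpoint : ∀ l m, l ≠ m → ∃! p, inc p l ∧ inc p m) (hq : Quad inc Set.univ)
    (hsm : ∀ (g : Γ) p l, inc (g • p) (g • l) ↔ inc p l)
    (hfaith : ∀ g : Γ, (∀ p : P, g • p = p) → g = 1) :
    ∃ S : Geo Γ P L, S.inc = inc := by
  obtain ⟨a, -, b, -, c, -, d, -, hab, hbc, hbd, had, h3⟩ := hq
  have := Fintype.ofFinite P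
  have := Fintype.ofFinite L
  let _ : Membership P L := ⟨fun l p => inc p l⟩
  obtain ⟨l₁, ⟨h₁a, h₁d⟩, -⟩ := hline a d had
  obtain ⟨l₂, ⟨h₂b, h₂c⟩, -⟩ := hline b c hbc
  obtain ⟨l₃, ⟨h₃b, h₃d⟩, -⟩ := hline b d hbd
  have ha2 : ¬ inc a l₂ := fun h => (h3 l₂).1 ⟨h, h₂b, h₂c⟩
  have ha3 : ¬ inc a l₃ := fun h => (h3 l₃).2.1 ⟨h, h₃b, h₃d⟩
  have hb1 : ¬ inc b l₁ := fun h => (h3 l₁).2.1 ⟨h₁a, h, h₁d⟩
  have hc1 : ¬ inc c l₁ := fun h => (h3 l₁).2.2.1 ⟨h₁a, h, h₁d⟩
  have hc3 : ¬ inc c l₃ := fun h => (h3 l₃).2.2.2 ⟨h₃b, h, h₃d⟩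
  let _ : Configuration.ProjectivePlane P L :=
    { exists_point := fun l => by
        by_contra! hall
        exact (h3 l).1 ⟨hall a, hall b, hall c⟩
      exists_line := fun p => by
        by_contra! hall
        obtain rfl : p = b := (hpoint l₂ l₃ fun e => hc3 (e ▸ h₂c)).unique
          ⟨hall l₂, hall l₃⟩ ⟨h₂b, h₃b⟩
        exact hb1 (hall l₁)
      eq_or_eq := fun {p q l m} hpl hql hpm hqm => by
        by_contra! hne
        exact hne.2 ((hline p q hne.1).unique ⟨hpl, hql⟩ ⟨hpm, hqm⟩)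
      mkPoint := fun {l m} h => (hpoint l m h).choose
      mkPoint_ax := fun {l m} h => (hpoint l m h).choose_spec.1
      mkLine := fun {p q} h => (hline p q h).choose
      mkLine_ax := fun {p q} h => (hline p q h).choose_spec.1
      exists_config := ⟨a, b, c, l₁, l₂, l₃, ha2, ha3, hb1, h₂b, h₃b, hc1, h₂c, hc3⟩ }
  refine ⟨⟨inc, Configuration.ProjectivePlane.order P L,
    Configuration.ProjectivePlane.one_lt_order P L, hline, hpoint, ?_, ?_, ?_, ?_, hsm, hfaith, ?_⟩, rfl⟩
  · intro l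
    rw [← Nat.card_coe_set_eq]
    exact Configuration.ProjectivePlane.pointCount_eq P l
  · intro p
    rw [← Nat.card_coe_set_eq]
    exact Configuration.ProjectivePlane.lineCount_eq L p
  · rw [Nat.card_eq_fintype_card]
    exact Configuration.ProjectivePlane.card_points P L
  · rw [Nat.card_eq_fintype_card]
    exact Configuration.ProjectivePlane.card_lines P L
  · intro g hg
    refine hfaith g fun p => ?_
    obtain ⟨l, m, hl, hm, hlm⟩ : ∃ l m, inc p l ∧ inc p m ∧ l ≠ m := by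
      have h2 := Configuration.ProjectivePlane.two_lt_lineCount L p
      have : Nontrivial {l : L // p ∈ l} := Finite.one_lt_card_iff_nontrivial.1
        (show 1 < Configuration.lineCount L p by omega)
      obtain ⟨⟨l, hl⟩, ⟨m, hm⟩, hne⟩ := exists_pair_ne {l : L // p ∈ l}
      exact ⟨l, m, hl, hm, fun e => hne (Subtype.ext e)⟩
    have e1 := (hsm g p l).2 hl
    have e2 := (hsm g p m).2 hm
    rw [hg] at e1 e2
    exact (hpoint l m hlm).unique ⟨e1, e2⟩ ⟨hl, hm⟩

variable (S : Geo Γ P L)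

/-- The dual plane. -/
def dual : Geo Γ L P where
  inc l p := S.inc p l
  n := S.n
  one_lt := S.one_lt
  line := S.point
  point := S.line
  card_line := S.card_pencil
  card_pencil := S.card_line
  card_P := S.card_L
  card_L := S.card_P
  smul_inc g l p := S.smul_inc g p l
  faith := S.faithL
  faithL := S.faith

@[simp] theorem dual_inc (p : P) (l : L) : S.dual.inc l p ↔ S.inc p l := Iff.rfl

@[simp] theorem dual_n : S.dual.n = S.n := rfl

theorem eq_line {p q : P} {l m : L} (h : p ≠ q) (hpl : S.inc p l) (hql : S.inc q l)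
    (hpm : S.inc p m) (hqm : S.inc q m) : l = m :=
  (S.line p q h).unique ⟨hpl, hql⟩ ⟨hpm, hqm⟩

theorem eq_point {p q : P} {l m : L} (h : l ≠ m) (hpl : S.inc p l) (hpm : S.inc p m)
    (hql : S.inc q l) (hqm : S.inc q m) : p = q :=
  (S.point l m h).unique ⟨hpl, hpm⟩ ⟨hql, hqm⟩

theorem exists_line (p q : P) : ∃ l, S.inc p l ∧ S.inc q l := by
  by_cases h : p = q
  · subst h
    have : 0 < {l | S.inc p l}.ncard := by rw [S.card_pencil]; omega
    obtain ⟨l, hl⟩ := Set.nonempty_of_ncard_ne_zero this.ne'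
    exact ⟨l, hl, hl⟩
  · exact (S.line p q h).exists

theorem exists_inter (l m : L) : ∃ p, S.inc p l ∧ S.inc p m := S.dual.exists_line l m

theorem smul_inc_iff (g : Γ) (p : P) (l : L) : S.inc (g • p) l ↔ S.inc p (g⁻¹ • l) := by
  conv_lhs => rw [← smul_inv_smul g l, S.smul_inc]

theorem inc_smul_fix {g : Γ} {l : L} (hl : g • l = l) (p : P) : S.inc (g • p) l ↔ S.inc p l := by
  have h := S.smul_inc g p l
  rwa [hl] at h

theorem inc_fix_smul {g : Γ} {p : P} (hp : g • p = p) (l : L) : S.inc p (g • l) ↔ S.inc p l :=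
  S.dual.inc_smul_fix (g := g) hp l

/-- The line through two fixed points is fixed. -/
theorem fix_line {g : Γ} {p q : P} {l : L} (h : p ≠ q) (hp : g • p = p) (hq : g • q = q)
    (hpl : S.inc p l) (hql : S.inc q l) : g • l = l :=
  S.eq_line h ((S.inc_fix_smul hp l).2 hpl) ((S.inc_fix_smul hq l).2 hql) hpl hql

/-- The common point of two fixed lines is fixed. -/
theorem fix_point {g : Γ} {p : P} {l m : L} (h : l ≠ m) (hl : g • l = l) (hm : g • m = m)
    (hpl : S.inc p l) (hpm : S.inc p m) : g • p = p :=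
  S.dual.fix_line (g := g) h hl hm hpl hpm

section Fin

variable [Finite P] [Finite L]

include S in
theorem finite_group : Finite Γ :=
  Finite.of_injective (fun g : Γ => (MulAction.toPerm g : Equiv.Perm P)) fun g h e => by
    refine mul_inv_eq_one.1 (S.faith _ fun p => ?_)
    have := Equiv.congr_fun e (h⁻¹ • p)
    simp only [MulAction.toPerm_apply, smul_inv_smul] at this
    rw [mul_smul, this]

/-- Every point lies on a line avoiding two given lines. -/
theorem exists_pencil_avoid (p : P) (l m : L) : ∃ k, S.inc p k ∧ k ≠ l ∧ k ≠ m := by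
  have h1 := Set.le_ncard_sdiff ({l, m} : Set L) {k | S.inc p k}
  have h2 : ({l, m} : Set L).ncard ≤ 2 := by
    refine (Set.ncard_insert_le _ _).trans ?_
    simp
  rw [S.card_pencil] at h1
  have := S.one_lt
  obtain ⟨k, hk, hk'⟩ := Set.nonempty_of_ncard_ne_zero
    (show ({k | S.inc p k} \ {l, m}).ncard ≠ 0 by omega)
  simp only [Set.mem_insert_iff, Set.mem_singleton_iff, not_or] at hk'
  exact ⟨k, hk, hk'⟩

theorem exists_line_avoid (l : L) (p q : P) : ∃ x, S.inc x l ∧ x ≠ p ∧ x ≠ q :=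
  S.dual.exists_pencil_avoid l p q

/-- Every point lies on a line different from a given one and avoiding a given other point. -/
theorem exists_pencil_avoid_pt (x a : P) (A : L) (h : a ≠ x) :
    ∃ k, S.inc x k ∧ k ≠ A ∧ ¬ S.inc a k := by
  obtain ⟨m, hxm, ham⟩ := S.exists_line x a
  obtain ⟨k, hk, hkA, hkm⟩ := S.exists_pencil_avoid x A m
  exact ⟨k, hk, hkA, fun ha => hkm (S.eq_line h.symm hk ha hxm ham)⟩

/-- Outside two lines there is a point. -/
theorem exists_off_two (l m : L) : ∃ p, ¬ S.inc p l ∧ ¬ S.inc p m := by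
  obtain ⟨x, hxl, hxm⟩ := S.exists_inter l m
  obtain ⟨k, hxk, hkl, hkm⟩ := S.exists_pencil_avoid x l m
  obtain ⟨p, hpk, hpx, -⟩ := S.exists_line_avoid k x x
  exact ⟨p, fun h => hkl (S.eq_line hpx hpk hxk h hxl), fun h => hkm (S.eq_line hpx hpk hxk h hxm)⟩

theorem exists_off (l : L) : ∃ p, ¬ S.inc p l :=
  let ⟨p, hp, _⟩ := S.exists_off_two l l
  ⟨p, hp⟩

theorem exists_dual_off (p : P) : ∃ l, ¬ S.inc p l := S.dual.exists_off p

theorem quad_univ : Quad S.inc Set.univ := by
  have hl : Nonempty L := (Nat.card_pos_iff.1 (by rw [S.card_L]; omega)).1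
  obtain ⟨A⟩ := hl
  obtain ⟨a, ha, -, -⟩ := S.exists_line_avoid A (S.exists_off A).choose (S.exists_off A).choose
  obtain ⟨b, hb, hba, -⟩ := S.exists_line_avoid A a a
  obtain ⟨c, hc⟩ := S.exists_off A
  have hac : a ≠ c := fun e => hc (e ▸ ha)
  have hbc : b ≠ c := fun e => hc (e ▸ hb)
  obtain ⟨k, hak, hck⟩ := S.exists_line a c
  obtain ⟨k', hbk, hck'⟩ := S.exists_line b c
  obtain ⟨m, hcm, hm1, hm2⟩ := S.exists_pencil_avoid c k k'
  obtain ⟨x, hxm, hxA⟩ := S.exists_inter m A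
  obtain ⟨d, hd, hdc, hdx⟩ := S.exists_line_avoid m c x
  have hdA : ¬ S.inc d A := fun h => hdx (S.eq_point (fun e : m = A => hc (e ▸ hcm)) hd h hxm hxA)
  refine ⟨a, trivial, b, trivial, c, trivial, d, trivial, hba.symm, hbc,
    fun e => hdA (e ▸ hb), fun e => hdA (e ▸ ha), fun l => ⟨?_, ?_, ?_, ?_⟩⟩
  · rintro ⟨h1, h2, h3⟩; exact hc ((S.eq_line hba h2 h1 hb ha) ▸ h3)
  · rintro ⟨h1, h2, h3⟩; exact hdA ((S.eq_line hba h2 h1 hb ha) ▸ h3)
  · rintro ⟨h1, h2, h3⟩
    obtain rfl := S.eq_line hac h1 h2 hak hck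
    exact hm1 (S.eq_line hdc hd hcm h3 h2)
  · rintro ⟨h1, h2, h3⟩
    obtain rfl := S.eq_line hbc h1 h2 hbk hck'
    exact hm2 (S.eq_line hdc hd hcm h3 h2)

end Fin

end Geo

end Cfsg.Agent.OstromWagner
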