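import Cfsg.Agent.Lib.OstromWagner.PrimePower
import Cfsg.Agent.Lib.OstromWagner.Exclude
import Cfsg.Agent.Lib.OstromWagner.Desarg

/-!
# A doubly transitive plane has a perspectivity

Take a 2-subgroup of maximal order among those fixing a plane of order `r` with `n = r ^ (2 ^ s)`.
Every two points and every two lines of that plane are fixed by an involutory homology of it, or its
group is doubly transitive with a perspectivity; in both cases `r`, hence `n`, is a prime power.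
-/

set_option autoImplicit false
set_option linter.unusedSectionVars false
set_option linter.unusedVariables false

open scoped Classical
open MulAction

namespace Cfsg.Agent.OstromWagner

/-- A `2`-subgroup properly inside another is normalised by an element whose square lies in it. -/
theorem exists_norm_elem {Γ : Type*} [Group Γ] [Finite Γ] {W Q : Subgroup Γ} (hWQ : W ≤ Q)
    (hne : W ≠ Q) (hQ : IsPGroup 2 Q) :
    ∃ g ∈ Q, g ∈ Subgroup.normalizer (W : Set Γ) ∧ g ∉ W ∧ g * g ∈ W := by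
  have := Fact.mk Nat.prime_two
  have := hQ.isNilpotent
  have hlt : W.subgroupOf Q < ⊤ := lt_top_iff_ne_top.2 fun h =>
    hne (le_antisymm hWQ (Subgroup.subgroupOf_eq_top.1 h))
  obtain ⟨⟨x, hxQ⟩, hxN, hxW⟩ :=
    SetLike.exists_of_lt ((Group.normalizerCondition_of_isNilpotent (G := Q)) _ hlt)
  have hxn : x ∈ Subgroup.normalizer (W : Set Γ) := by
    refine Subgroup.mem_normalizer_iff.2 fun w => ⟨fun hw => ?_, fun hw => ?_⟩
    · exact (Subgroup.mem_normalizer_iff.1 hxN ⟨w, hWQ hw⟩).1 hw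
    · have hwQ : w ∈ Q := by
        have := Q.mul_mem (Q.mul_mem (Q.inv_mem hxQ) (hWQ hw)) hxQ
        rwa [show x⁻¹ * (x * w * x⁻¹) * x = w by group] at this
      exact (Subgroup.mem_normalizer_iff.1 hxN ⟨w, hwQ⟩).2 hw
  obtain ⟨k, hk⟩ := hQ ⟨x, hxQ⟩
  have hk' : x ^ 2 ^ k ∈ W := by
    rw [show x ^ 2 ^ k = 1 from congrArg Subtype.val hk]
    exact one_mem _
  have hex : ∃ j, x ^ 2 ^ j ∈ W := ⟨k, hk'⟩
  obtain ⟨j, hj⟩ : ∃ j, Nat.find hex = j + 1 := by
    rcases Nat.eq_zero_or_pos (Nat.find hex) with h | h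
    · exfalso
      have := Nat.find_spec hex
      rw [h, pow_zero, pow_one] at this
      exact hxW this
    · exact ⟨Nat.find hex - 1, by omega⟩
  refine ⟨x ^ 2 ^ j, pow_mem hxQ _, pow_mem hxn _, Nat.find_min hex (by omega), ?_⟩
  rw [← pow_add, ← two_mul, ← pow_succ', ← hj]
  exact Nat.find_spec hex

namespace Geo

variable {Γ P L : Type*} [Group Γ] [MulAction Γ P] [MulAction Γ L] (S : Geo Γ P L) [Finite P] [Finite L]

/-- A `2`-subgroup fixing a plane from which the order is reached by repeated squaring. -/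
def Good (W : Subgroup Γ) : Prop :=
  IsPGroup 2 W ∧ ∃ T : Geo (Coll (S.subInc W)) (FP W S) (FL W S), T.inc = S.subInc W ∧
    ∃ s, S.n = T.n ^ 2 ^ s

theorem good_bot : S.Good (⊥ : Subgroup Γ) := by
  have huniv : FP (⊥ : Subgroup Γ) S = Set.univ :=
    Set.eq_univ_of_forall fun p w hw => by rw [Subgroup.mem_bot.1 hw, one_smul]
  obtain ⟨T, hT⟩ := S.exists_sub (W := ⊥) (huniv ▸ S.quad_univ)
  refine ⟨IsPGroup.of_bot, T, hT, 0, ?_⟩
  rw [pow_zero, pow_one]
  refine order_inj ?_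
  rw [← S.card_P, ← T.card_P, Nat.card_coe_set_eq, huniv, Set.ncard_univ]

section Step

variable {W : Subgroup Γ} (T : Geo (Coll (S.subInc W)) (FP W S) (FL W S))

theorem norm_mem_FP {g : Γ} (hg : g ∈ Subgroup.normalizer (W : Set Γ)) (p : P) :
    g • p ∈ FP W S ↔ p ∈ FP W S := by
  constructor
  · intro h w hw
    have := h (g * w * g⁻¹) ((Subgroup.mem_normalizer_iff.1 hg w).1 hw)
    rw [mul_smul, mul_smul, inv_smul_smul] at this
    exact MulAction.injective g this
  · intro h w hw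
    have h1 : g⁻¹ * w * g ∈ W := (Subgroup.mem_normalizer_iff.1 hg _).2
      (by rw [show g * (g⁻¹ * w * g) * g⁻¹ = w by group]; exact hw)
    rw [show w • g • p = g • ((g⁻¹ * w * g) • p) by rw [smul_smul, smul_smul]; congr 1; group, h _ h1]

theorem norm_mem_FL {g : Γ} (hg : g ∈ Subgroup.normalizer (W : Set Γ)) (l : L) :
    g • l ∈ FL W S ↔ l ∈ FL W S := S.dual.norm_mem_FP hg l

/-- The collineation of the fixed plane induced by an element of the normaliser. -/
def ind (g : Γ) (hg : g ∈ Subgroup.normalizer (W : Set Γ)) : Coll (S.subInc W) :=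
  Coll.mk (S.subInc W) ((MulAction.toPerm g : Equiv.Perm P).subtypePerm fun p => S.norm_mem_FP hg p)
    ((MulAction.toPerm g : Equiv.Perm L).subtypePerm fun l => S.norm_mem_FL hg l)
    fun p l => S.smul_inc g p.1 l.1

theorem ind_smul (g : Γ) (hg : g ∈ Subgroup.normalizer (W : Set Γ)) (p : FP W S) :
    ((S.ind g hg • p : FP W S) : P) = g • (p : P) := rfl

theorem ind_smul' (g : Γ) (hg : g ∈ Subgroup.normalizer (W : Set Γ)) (l : FL W S) :
    ((S.ind g hg • l : FL W S) : L) = g • (l : L) := rfl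

variable (hT : T.inc = S.subInc W)

include hT in
/-- An element of the normaliser squaring into a maximal good subgroup induces a perspectivity. -/
theorem step (hW : IsPGroup 2 W) {s : ℕ} (hs : S.n = T.n ^ 2 ^ s)
    (hmax : ∀ W' : Subgroup Γ, S.Good W' → Nat.card W' ≤ Nat.card W) {g : Γ}
    (hg : g ∈ Subgroup.normalizer (W : Set Γ)) (hgW : g ∉ W) (hg2 : g * g ∈ W) :
    S.ind g hg * S.ind g hg = 1 ∧ S.ind g hg ≠ 1 ∧ ∃ A, T.Ax (S.ind g hg) A := by
  have := S.finite_group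
  have := Fact.mk Nat.prime_two
  set u := S.ind g hg with hu
  have husq : u * u = 1 := by
    refine T.faith _ fun p => Subtype.ext ?_
    show g • g • (p : P) = p
    rw [← mul_smul, p.2 _ hg2]
  -- the subgroup generated by `W` and `g`
  let W' : Subgroup Γ := Subgroup.zpowers g ⊔ W
  have hgp : IsPGroup 2 (Subgroup.zpowers g) := by
    obtain ⟨k, hk⟩ := hW ⟨g * g, hg2⟩
    have hk' : g ^ 2 ^ (k + 1) = 1 := by
      have := congrArg Subtype.val hk
      rw [Subgroup.coe_pow, Subgroup.coe_one] at this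
      rw [pow_succ', pow_mul, sq]
      exact this
    obtain ⟨i, -, hi⟩ := (Nat.dvd_prime_pow Nat.prime_two).1 (orderOf_dvd_of_pow_eq_one hk')
    exact IsPGroup.of_card (n := i) (by rw [Nat.card_zpowers, hi])
  have hW'p : IsPGroup 2 W' := hgp.to_sup_of_normal_right' hW (Subgroup.zpowers_le.2 hg)
  have hlt : Nat.card W < Nat.card W' := by
    refine lt_of_le_of_ne (Subgroup.card_le_of_le le_sup_right) fun h => hgW ?_
    rw [Subgroup.eq_of_le_of_card_ge (le_sup_right : W ≤ W') h.ge]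
    exact Subgroup.mem_sup_left (Subgroup.mem_zpowers g)
  have hFP : ∀ p, p ∈ FP W' S ↔ ∃ h : p ∈ FP W S, u • (⟨p, h⟩ : FP W S) = ⟨p, h⟩ := by
    intro p
    constructor
    · intro h
      exact ⟨fun w hw => h w (Subgroup.mem_sup_right hw),
        Subtype.ext (h g (Subgroup.mem_sup_left (Subgroup.mem_zpowers g)))⟩
    · rintro ⟨h, he⟩
      have hle : W' ≤ stabilizer Γ p :=
        sup_le (Subgroup.zpowers_le.2 (congrArg Subtype.val he : g • p = p)) fun w hw => h w hw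
      exact fun w hw => hle hw
  have hFL : ∀ l, l ∈ FL W' S ↔ ∃ h : l ∈ FL W S, u • (⟨l, h⟩ : FL W S) = ⟨l, h⟩ := by
    intro l
    constructor
    · intro h
      exact ⟨fun w hw => h w (Subgroup.mem_sup_right hw),
        Subtype.ext (h g (Subgroup.mem_sup_left (Subgroup.mem_zpowers g)))⟩
    · rintro ⟨h, he⟩
      have hle : W' ≤ stabilizer Γ l :=
        sup_le (Subgroup.zpowers_le.2 (congrArg Subtype.val he : g • l = l)) fun w hw => h w hw
      exact fun w hw => hle hw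
  have hbad : Quad T.inc {p | u • p = p} → False := by
    intro hq
    have hq' : Quad S.inc (FP W' S) := by
      obtain ⟨a, ha, b, hb, c, hc, d, hd, h1, h2, h3, h4, h5⟩ := hq
      rw [hT] at h5
      refine ⟨a.1, (hFP _).2 ⟨a.2, ha⟩, b.1, (hFP _).2 ⟨b.2, hb⟩, c.1, (hFP _).2 ⟨c.2, hc⟩, d.1,
        (hFP _).2 ⟨d.2, hd⟩, fun e => h1 (Subtype.ext e), fun e => h2 (Subtype.ext e),
        fun e => h3 (Subtype.ext e), fun e => h4 (Subtype.ext e), fun l => ?_⟩
      -- a line through two of the points is fixed by `W`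
      have hfix : ∀ (x y : FP W S), x ≠ y → S.inc x.1 l → S.inc y.1 l → l ∈ FL W S :=
        fun x y hxy hx hy w hw => S.fix_line (fun e => hxy (Subtype.ext e)) (x.2 w hw) (y.2 w hw) hx hy
      refine ⟨?_, ?_, ?_, ?_⟩
      · rintro ⟨e1, e2, e3⟩; exact (h5 ⟨l, hfix a b h1 e1 e2⟩).1 ⟨e1, e2, e3⟩
      · rintro ⟨e1, e2, e3⟩; exact (h5 ⟨l, hfix a b h1 e1 e2⟩).2.1 ⟨e1, e2, e3⟩
      · rintro ⟨e1, e2, e3⟩; exact (h5 ⟨l, hfix a d h4 e1 e3⟩).2.2.1 ⟨e1, e2, e3⟩
      · rintro ⟨e1, e2, e3⟩; exact (h5 ⟨l, hfix b c h2 e1 e2⟩).2.2.2 ⟨e1, e2, e3⟩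
    obtain ⟨T', hT'⟩ := S.exists_sub hq'
    have hcP : {p : FP W S | u • p = p}.ncard = T'.n ^ 2 + T'.n + 1 := by
      rw [← T'.card_P, Nat.card_coe_set_eq, ← Set.ncard_image_of_injective _ Subtype.val_injective]
      congr 1
      ext p
      rw [hFP]
      constructor
      · rintro ⟨q, hq', rfl⟩; exact ⟨q.2, hq'⟩
      · rintro ⟨h, he⟩; exact ⟨⟨p, h⟩, he, rfl⟩
    have hgood : ∀ j, T.n = T'.n ^ 2 ^ j → False := by
      intro j hj
      refine absurd (hmax W' ⟨hW'p, T', hT', j + s, ?_⟩) (not_le.2 hlt)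
      rw [hs, hj, ← pow_mul, pow_add]
    by_cases hu1 : u = 1
    · refine hgood 0 ?_
      rw [pow_zero, pow_one]
      refine order_inj ?_
      rw [← hcP, ← T.card_P, hu1, ← Set.ncard_univ]
      congr 1
      ext p
      simp
    refine hgood 1 ?_
    rw [pow_one]
    refine T.sq_order husq hu1 hcP ?_ ?_
    · rw [← T'.card_L, Nat.card_coe_set_eq, ← Set.ncard_image_of_injective _ Subtype.val_injective]
      congr 1
      ext l
      rw [hFL]
      constructor
      · rintro ⟨q, hq', rfl⟩; exact ⟨q.2, hq'⟩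
      · rintro ⟨h, he⟩; exact ⟨⟨l, h⟩, he, rfl⟩
    · intro l hl
      rw [← T'.card_line ⟨l.1, (hFL _).2 ⟨l.2, hl⟩⟩, hT', hT,
        ← Set.ncard_image_of_injective (f := Subtype.val) _ Subtype.val_injective,
        ← Set.ncard_image_of_injective (f := Subtype.val)
          {p : FP W' S | S.subInc W' p ⟨l.1, (hFL _).2 ⟨l.2, hl⟩⟩} Subtype.val_injective]
      congr 1
      ext p
      constructor
      · rintro ⟨q, ⟨hq', hfix⟩, rfl⟩
        exact ⟨⟨q.1, (hFP _).2 ⟨q.2, hfix⟩⟩, hq', rfl⟩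
      · rintro ⟨q, hq', rfl⟩
        obtain ⟨h, he⟩ := (hFP _).1 q.2
        exact ⟨⟨q.1, h⟩, ⟨hq', he⟩, rfl⟩
  have hu1 : u ≠ 1 := by
    intro h1
    refine hbad ?_
    rw [show {p : FP W S | u • p = p} = Set.univ from
      Set.eq_univ_of_forall fun p => by show u • p = p; rw [h1, one_smul]]
    exact T.quad_univ
  exact ⟨husq, hu1, (T.quad_or_ax husq hu1).resolve_right hbad⟩

end Step

/-- A doubly transitive finite plane has a nontrivial perspectivity. -/
theorem exists_perspectivity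
    (h2 : ∀ p₁ p₂ q₁ q₂ : P, p₁ ≠ p₂ → q₁ ≠ q₂ → ∃ g : Γ, g • p₁ = q₁ ∧ g • p₂ = q₂) :
    ∃ g : Γ, g ≠ 1 ∧ ∃ A, S.Ax g A := by
  by_contra hcon
  have hno : ∀ (g : Γ) (A : L), S.Ax g A → g = 1 := fun g A hA => by
    by_contra h
    exact hcon ⟨g, h, A, hA⟩
  have := S.finite_group
  have := Fact.mk Nat.prime_two
  have hodd := S.odd_order hno h2
  obtain ⟨W, hWG, hmax⟩ := Set.Finite.exists_maximalFor (fun W : Subgroup Γ => Nat.card W)
    {W | S.Good W} (Set.toFinite _) ⟨⊥, S.good_bot⟩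
  have hmax' : ∀ W' : Subgroup Γ, S.Good W' → Nat.card W' ≤ Nat.card W := fun W' hW' => by
    by_contra h
    exact h (hmax hW' (le_of_not_ge h))
  obtain ⟨hWp, T, hT, s, hs⟩ := hWG
  have hn0 : 2 ^ s ≠ 0 := by positivity
  suffices IsPrimePow T.n from S.not_isPrimePow hno h2 (hs ▸ this.pow hn0)
  have hTodd : Odd T.n := by
    rw [hs] at hodd
    exact (Nat.odd_pow_iff hn0).1 hodd
  have hstep : ∀ Q : Subgroup Γ, W ≤ Q → W ≠ Q → IsPGroup 2 Q →
      ∃ (g : Γ) (hg : g ∈ Subgroup.normalizer (W : Set Γ)) (C : FP W S) (A : FL W S),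
        g ∈ Q ∧ T.IsHom (S.ind g hg) C A := by
    intro Q hWQ hne hQ
    obtain ⟨g, hgQ, hgN, hgW, hg2⟩ := exists_norm_elem hWQ hne hQ
    obtain ⟨h1, h3, A, hA⟩ := S.step T hT hWp hs hmax' hgN hgW hg2
    obtain ⟨C, hC⟩ := T.isHom_of_ax hTodd h3 h1 hA
    exact ⟨g, hgN, C, A, hgQ, hC⟩
  -- the common order of the stabilisers of pairs
  obtain ⟨a₀, -, b₀, -, -, -, -, -, hab₀, -⟩ := T.quad_univ
  let K₀ := stabilizer Γ ((a₀ : P), (b₀ : P))
  have hab₀' : (a₀ : P) ≠ (b₀ : P) := fun e => hab₀ (Subtype.ext e)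
  have hvpos : 0 < (S.n ^ 2 + S.n + 1) * (S.n ^ 2 + S.n) := by have := S.one_lt; positivity
  have hK : ∀ x y : P, x ≠ y → Nat.card (stabilizer Γ (x, y)) = Nat.card K₀ := fun x y h =>
    Nat.eq_of_mul_eq_mul_right hvpos ((S.card_pair_stab h2 h).trans (S.card_pair_stab h2 hab₀').symm)
  have hKL : ∀ x y : L, x ≠ y → Nat.card (stabilizer Γ (x, y)) = Nat.card K₀ := fun x y h =>
    Nat.eq_of_mul_eq_mul_right hvpos
      ((S.dual.card_pair_stab (fun a b c d h h' => S.two_trans_lines h2 a b c d h h') h).trans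
        (S.card_pair_stab h2 hab₀').symm)
  by_cases hfull : Nat.card W = 2 ^ (Nat.card K₀).factorization 2
  · -- `W` is a Sylow subgroup of the stabiliser of a pair: Witt
    have hle : ∀ x y : FP W S, W ≤ stabilizer Γ ((x : P), (y : P)) := fun x y w hw =>
      Prod.ext (x.2 w hw) (y.2 w hw)
    have hWitt : ∀ x y x' y' : FP W S, x ≠ y → x' ≠ y' →
        ∃ (g : Γ) (hg : g ∈ Subgroup.normalizer (W : Set Γ)), g • (x : P) = x' ∧ g • (y : P) = y' := by
      intro x y x' y' hxy hxy'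
      have hxy1 : (x' : P) ≠ y' := fun e => hxy' (Subtype.ext e)
      obtain ⟨g, hgx, hgy⟩ := h2 x y x' y' (fun e => hxy (Subtype.ext e)) hxy1
      let K := stabilizer Γ ((x' : P), (y' : P))
      let W' : Subgroup Γ := W.map (MulAut.conj g).toMonoidHom
      have hW'K : W' ≤ K := by
        rintro _ ⟨w, hw, rfl⟩
        refine Prod.ext ?_ ?_
        · show (g * w * g⁻¹) • (x' : P) = x'
          rw [mul_smul, mul_smul, inv_smul_eq_iff.2 hgx.symm, x.2 w hw, hgx]
        · show (g * w * g⁻¹) • (y' : P) = y'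
          rw [mul_smul, mul_smul, inv_smul_eq_iff.2 hgy.symm, y.2 w hw, hgy]
      let S₁ : Sylow 2 K := Sylow.ofCard (W.subgroupOf K) (by
        rw [Nat.card_congr (Subgroup.subgroupOfEquivOfLe (hle x' y')).toEquiv, hfull, hK _ _ hxy1])
      let S₂ : Sylow 2 K := Sylow.ofCard (W'.subgroupOf K) (by
        rw [Nat.card_congr (Subgroup.subgroupOfEquivOfLe hW'K).toEquiv,
          Subgroup.card_map_of_injective (MulAut.conj g).injective, hfull, hK _ _ hxy1])
      obtain ⟨⟨h, hh⟩, hhS⟩ := MulAction.exists_smul_eq K S₂ S₁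
      have hconv : ∀ w ∈ W, h * g * w * (h * g)⁻¹ ∈ W := by
        intro w hw
        have hm : g * w * g⁻¹ ∈ W' := ⟨w, hw, rfl⟩
        have : (MulAut.conj (⟨h, hh⟩ : K)) ⟨_, hW'K hm⟩ ∈ ((⟨h, hh⟩ : K) • S₂ : Sylow 2 K).toSubgroup :=
          Subgroup.smul_mem_pointwise_smul (⟨_, hW'K hm⟩ : K) (MulAut.conj (⟨h, hh⟩ : K)) _
            (show (⟨_, hW'K hm⟩ : K) ∈ W'.subgroupOf K from hm)
        rw [hhS] at this
        have h' : h * (g * w * g⁻¹) * h⁻¹ ∈ W := this
        rwa [show h * g * w * (h * g)⁻¹ = h * (g * w * g⁻¹) * h⁻¹ by group]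
      have hle' : W.map (MulAut.conj (h * g)).toMonoidHom ≤ W := by
        rintro _ ⟨w, hw, rfl⟩
        exact hconv w hw
      have heq := Subgroup.eq_of_le_of_card_ge hle'
        (Subgroup.card_map_of_injective (MulAut.conj (h * g)).injective).ge
      refine ⟨h * g, Subgroup.mem_normalizer_iff.2 fun w => ⟨hconv w, fun hw => ?_⟩, ?_, ?_⟩
      · obtain ⟨v, hv, hv'⟩ : h * g * w * (h * g)⁻¹ ∈ W.map (MulAut.conj (h * g)).toMonoidHom := by
          rw [heq]; exact hw
        exact (MulAut.conj (h * g)).injective hv' ▸ hv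
      · rw [mul_smul, hgx]; exact congrArg Prod.fst hh
      · rw [mul_smul, hgy]; exact congrArg Prod.snd hh
    have h2T : ∀ p₁ p₂ q₁ q₂ : FP W S, p₁ ≠ p₂ → q₁ ≠ q₂ →
        ∃ u : Coll (S.subInc W), u • p₁ = q₁ ∧ u • p₂ = q₂ := fun p₁ p₂ q₁ q₂ h h' =>
      let ⟨g, hg, e1, e2⟩ := hWitt p₁ p₂ q₁ q₂ h h'
      ⟨S.ind g hg, Subtype.ext e1, Subtype.ext e2⟩
    -- a `2`-element exchanging the two base points
    obtain ⟨t, htN, hta, htb⟩ := hWitt a₀ b₀ b₀ a₀ hab₀ hab₀.symm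
    obtain ⟨i, o, ho, hord⟩ := Nat.exists_eq_pow_mul_and_not_dvd (orderOf_pos t).ne' 2 (by norm_num)
    obtain ⟨c, hc⟩ : Odd o := Nat.not_even_iff_odd.1 fun h => ho h.two_dvd
    have hto : (t ^ o) • (a₀ : P) = b₀ := by
      have hsq : (t ^ 2) • (a₀ : P) = a₀ := by rw [sq, mul_smul, hta, htb]
      rw [hc, pow_succ', mul_smul, show (t ^ (2 * c)) • (a₀ : P) = a₀ by
        rw [pow_mul]
        exact (Subgroup.zpowers_le.2 (show t ^ 2 ∈ stabilizer Γ (a₀ : P) from hsq))
          (pow_mem (Subgroup.mem_zpowers (t ^ 2)) c), hta]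
    have hQ : IsPGroup 2 ↥(Subgroup.zpowers (t ^ o) ⊔ W) := by
      refine IsPGroup.to_sup_of_normal_right' ?_ hWp (Subgroup.zpowers_le.2 (pow_mem htN o))
      have h1 : (t ^ o) ^ 2 ^ i = 1 := by rw [← pow_mul, mul_comm, ← hord, pow_orderOf_eq_one]
      obtain ⟨j, -, hj⟩ := (Nat.dvd_prime_pow Nat.prime_two).1 (orderOf_dvd_of_pow_eq_one h1)
      exact IsPGroup.of_card (n := j) (by rw [Nat.card_zpowers, hj])
    have hne : W ≠ Subgroup.zpowers (t ^ o) ⊔ W := by
      intro e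
      have hm : t ^ o ∈ W := by rw [e]; exact Subgroup.mem_sup_left (Subgroup.mem_zpowers _)
      exact hab₀' ((a₀.2 _ hm).symm.trans hto)
    obtain ⟨g, hg, C, A, -, hhom⟩ := hstep _ le_sup_right hne hQ
    obtain ⟨F, _, _, φ, hF, -⟩ := T.desarguesian h2T ⟨_, hhom.ne_one, A, hhom.ax⟩
    exact hF ▸ Fintype.isPrimePow_card_of_field
  · -- every pair is fixed by an involutory homology
    have hbig : ∀ K : Subgroup Γ, W ≤ K → Nat.card K = Nat.card K₀ →
        ∃ (g : Γ) (hg : g ∈ Subgroup.normalizer (W : Set Γ)) (C : FP W S) (A : FL W S),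
          g ∈ K ∧ T.IsHom (S.ind g hg) C A := by
      intro K hWK hKc
      obtain ⟨R, hR⟩ := IsPGroup.exists_le_sylow
        (show IsPGroup 2 (W.subgroupOf K) from hWp.of_equiv (Subgroup.subgroupOfEquivOfLe hWK).symm)
      let Q : Subgroup Γ := (R : Subgroup K).map K.subtype
      have hWQ : W ≤ Q := fun w hw => ⟨⟨w, hWK hw⟩, hR hw, rfl⟩
      have hQc : Nat.card Q = 2 ^ (Nat.card K₀).factorization 2 := by
        rw [Subgroup.card_map_of_injective K.subtype_injective, R.card_eq_multiplicity, hKc]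
      obtain ⟨g, hg, C, A, hgQ, hhom⟩ := hstep Q hWQ (fun e => hfull (e ▸ hQc)) (R.2.map _)
      exact ⟨g, hg, C, A, Subgroup.map_subtype_le _ hgQ, hhom⟩
    refine T.isPrimePow_of_abundance hTodd (fun x y hxy => ?_) fun x y hxy => ?_
    · obtain ⟨g, hg, C, A, hgK, hhom⟩ := hbig (stabilizer Γ ((x : P), (y : P)))
        (fun w hw => Prod.ext (x.2 w hw) (y.2 w hw)) (hK _ _ fun e => hxy (Subtype.ext e))
      exact ⟨_, C, A, hhom, Subtype.ext (congrArg Prod.fst hgK), Subtype.ext (congrArg Prod.snd hgK)⟩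
    · obtain ⟨g, hg, C, A, hgK, hhom⟩ := hbig (stabilizer Γ ((x : L), (y : L)))
        (fun w hw => Prod.ext (x.2 w hw) (y.2 w hw)) (hKL _ _ fun e => hxy (Subtype.ext e))
      exact ⟨_, C, A, hhom, Subtype.ext (congrArg Prod.fst hgK), Subtype.ext (congrArg Prod.snd hgK)⟩

end Geo

end Cfsg.Agent.OstromWagner
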