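import Cfsg.Agent.Lib.OstromWagner.Groups

/-!
# A point that is no centre

If every two points and every two lines are fixed by an involutory homology and some point is not
the centre of an involutory homology, then the (odd) order is a prime power.
-/

set_option autoImplicit false
set_option linter.unusedSectionVars false
set_option linter.unusedVariables false

open scoped Classical

namespace Cfsg.Agent.OstromWagner.Geo

variable {Γ P L : Type*} [Group Γ] [MulAction Γ P] [MulAction Γ L] (S : Geo Γ P L) [Finite P] [Finite L]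

/-- Every line `k ≠ l` through `d` contains a centre of an involutory homology with axis `l`. -/
def Full (d : P) (l : L) : Prop :=
  ∀ k, S.inc d k → k ≠ l → ∃ g C, S.IsHom g C l ∧ S.inc C k

/-- Half of the lines through `d` carrying a centre makes the elations transitive on them. -/
theorem El_transitive (hodd : Odd S.n) {d : P} {l : L} (hdl : S.inc d l) (K : Finset L)
    (hK : ∀ k ∈ K, S.inc d k ∧ k ≠ l ∧ ∃ g C, S.IsHom g C l ∧ S.inc C k)
    (hcard : S.n ≤ 2 * K.card) {k₁ k₂ : L} (hk₁ : S.inc d k₁) (h₁ : k₁ ≠ l) (hk₂ : S.inc d k₂)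
    (h₂ : k₂ ≠ l) : ∃ e ∈ S.El l, e • k₁ = k₂ := by
  have := S.finite_group
  obtain ⟨k₀, hk₀⟩ : K.Nonempty := Finset.card_pos.1 (by have := S.one_lt; omega)
  obtain ⟨hd₀, hl₀, g₀, C₀, hg₀, hC₀⟩ := hK k₀ hk₀
  let O : L → Set L := fun k => MulAction.orbit (S.El l) k
  have hsub : ∀ k, S.inc d k → k ≠ l → O k ⊆ {m | S.inc d m} \ {l} := by
    rintro k hk hkl _ ⟨e, rfl⟩
    refine ⟨(S.inc_fix_smul (S.El_ax e.2 d hdl) k).2 hk, fun h => hkl ?_⟩
    exact MulAction.injective (e : Γ) ((show (e : Γ) • k = l from h).trans (S.El_fix e.2).symm)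
  have hle : ∀ k k', S.inc d k → k ≠ l → S.inc d k' → k' ≠ l → (O k).ncard ≤ (O k').ncard := by
    intro k k' hk hkl hk' hk'l
    have hch : ∀ m ∈ O k, ∃ e : S.El l, e • k = m := fun m hm => hm
    choose! f hf using hch
    refine Set.ncard_le_ncard_of_injOn (fun m => f m • k') (fun m hm => ⟨f m, rfl⟩) ?_ (Set.toFinite _)
    intro m hm m' hm' he
    have h1 : (((f m')⁻¹ * f m : S.El l) : Γ) • k' = k' := by
      show ((f m')⁻¹ * f m) • k' = k'
      rw [mul_smul, show f m • k' = f m' • k' from he, inv_smul_smul]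
    have h2 : ((f m')⁻¹ * f m) • k = k :=
      (S.EC_of_fixed_line ((f m')⁻¹ * f m).2 h1 hk'l hk' hdl).2 k hk
    rw [mul_smul, hf m hm, inv_smul_eq_iff, hf m' hm'] at h2
    exact h2
  have hbig : K.card ≤ (O k₀).ncard := by
    have hch : ∀ k ∈ K, ∃ g C, S.IsHom g C l ∧ S.inc C k := fun k hk => (hK k hk).2.2
    have : Nonempty P := ⟨d⟩
    choose! g C hg hC using hch
    let f : L → L := fun k => if k = k₀ then k₀ else (g k * g₀) • k₀
    have hCd : ∀ k ∈ K, C k ≠ d := fun k hk e => (hg k hk).off (e ▸ hdl)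
    have hC0d : C₀ ≠ d := fun e => hg₀.off (e ▸ hdl)
    have hCne : ∀ k ∈ K, k ≠ k₀ → C k ≠ C₀ := fun k hk hne e =>
      hne (S.eq_line (hCd k hk) (hC k hk) (hK k hk).1 (e ▸ hC₀) hd₀)
    have hpair : ∀ (a b : Γ) (Ca Cb : P) (ka kb : L), S.IsHom a Ca l → S.IsHom b Cb l → S.inc Ca ka →
        S.inc d ka → S.inc Cb kb → S.inc d kb → (a * b) • k₀ = k₀ → ka = kb := by
      intro a b Ca Cb ka kb ha hb hCa hda hCb hdb hab
      by_contra hne
      have hCC : Ca ≠ Cb := fun e =>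
        hne (S.eq_line (fun e' : Ca = d => ha.off (e' ▸ hdl)) hCa hda (e ▸ hCb) hdb)
      obtain ⟨m, ham, hbm⟩ := S.exists_line Ca Cb
      obtain ⟨X, hXm, hXl⟩ := S.exists_inter m l
      obtain ⟨hX, hX1⟩ := IsHom.prod S ha hb hCC ham hbm hXm hXl
      rcases S.fixed_line hX.1 hX.2 hX1 hab with h | h
      · exact hl₀ h
      · obtain rfl := S.eq_point hl₀ h hXl hd₀ hdl
        exact hne ((S.eq_line (fun e' : Ca = X => ha.off (e' ▸ hdl)) hCa hda ham hXm).trans
          (S.eq_line (fun e' : Cb = X => hb.off (e' ▸ hdl)) hCb hdb hbm hXm).symm)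
    rw [← Set.ncard_coe_finset]
    refine Set.ncard_le_ncard_of_injOn f ?_ ?_ (Set.toFinite _)
    · intro k hk
      simp only [f]
      split_ifs with h
      · exact MulAction.mem_orbit_self _
      · obtain ⟨m, ham, hbm⟩ := S.exists_line (C k) C₀
        obtain ⟨X, hXm, hXl⟩ := S.exists_inter m l
        exact ⟨⟨_, S.EC_le_El hXl (IsHom.prod S (hg k hk) hg₀ (hCne k hk h) ham hbm hXm hXl).1⟩, rfl⟩
    · intro k hk k' hk' he
      simp only [f] at he
      split_ifs at he with h h' h'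
      · exact h.trans h'.symm
      · exact absurd (hpair _ _ _ _ _ _ (hg k' hk') hg₀ (hC k' hk') (hK k' hk').1 hC₀ hd₀ he.symm) h'
      · exact absurd (hpair _ _ _ _ _ _ (hg k hk) hg₀ (hC k hk) (hK k hk).1 hC₀ hd₀ he) h
      · refine hpair _ _ _ _ _ _ (hg k hk) (hg k' hk') (hC k hk) (hK k hk).1 (hC k' hk') (hK k' hk').1 ?_
        rw [mul_smul, mul_smul, hg₀.cen k₀ hC₀] at he
        rw [mul_smul, ← he, ← mul_smul, (hg k hk).sq, one_smul]
  by_contra hne
  push Not at hne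
  have hdisj : Disjoint (O k₁) (O k₂) := by
    rw [Set.disjoint_left]
    intro m hm hm'
    have e : O k₁ = O k₂ := (MulAction.orbit_eq_iff.2 hm).symm.trans (MulAction.orbit_eq_iff.2 hm')
    have : k₂ ∈ O k₁ := by rw [e]; exact MulAction.mem_orbit_self _
    obtain ⟨x, hx⟩ := this
    exact hne x x.2 hx
  have hun := Set.ncard_le_ncard (Set.union_subset (hsub k₁ hk₁ h₁) (hsub k₂ hk₂ h₂)) (Set.toFinite _)
  rw [Set.ncard_union_eq hdisj (Set.toFinite _) (Set.toFinite _), S.ncard_pencil_sdiff hdl] at hun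
  have e1 := hle k₀ k₁ hd₀ hl₀ hk₁ h₁
  have e2 := hle k₀ k₂ hd₀ hl₀ hk₂ h₂
  have : S.n = 2 * K.card := by omega
  exact Nat.not_even_iff_odd.2 hodd ⟨K.card, by omega⟩

/-- A full line through `d` has all elations in one direction, or the order is a prime power. -/
theorem full_cases (hodd : Odd S.n) {d : P} {l : L} (hdl : S.inc d l) (hf : S.Full d l)
    (hpp : ¬ IsPrimePow S.n) :
    ∃ X, S.inc X l ∧ X ≠ d ∧ S.n ∣ Nat.card (S.EC X l) ∧ (∃ e ∈ S.EC X l, e ≠ 1) ∧
      (∀ Y, S.inc Y l → ∀ e ∈ S.EC Y l, e ≠ 1 → Y = X) ∧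
      ∀ k₁ k₂, S.inc d k₁ → k₁ ≠ l → S.inc d k₂ → k₂ ≠ l → ∃ e ∈ S.EC X l, e • k₁ = k₂ := by
  have := S.finite_group
  have := Fintype.ofFinite L
  let K := Finset.univ.filter fun k => S.inc d k ∧ k ≠ l
  have hKc : K.card = S.n := by
    rw [← S.ncard_pencil_sdiff hdl, ← Set.ncard_coe_finset]
    congr 1
    ext k
    simp [K]
  have htr : ∀ k₁ k₂, S.inc d k₁ → k₁ ≠ l → S.inc d k₂ → k₂ ≠ l → ∃ e ∈ S.El l, e • k₁ = k₂ :=
    fun k₁ k₂ a b c e => S.El_transitive hodd hdl K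
      (fun k hk => by
        obtain ⟨h1, h2⟩ := (Finset.mem_filter.1 hk).2
        exact ⟨h1, h2, hf k h1 h2⟩) (by omega) a b c e
  obtain ⟨k₁, hk₁, h₁, -⟩ := S.exists_pencil_avoid d l l
  obtain ⟨k₂, hk₂, h₂, h₁₂⟩ := S.exists_pencil_avoid d l k₁
  obtain ⟨e, he, hek⟩ := htr k₁ k₂ hk₁ h₁ hk₂ h₂
  obtain ⟨X, hX, heX⟩ := S.mem_El_iff.1 he
  have he1 : e ≠ 1 := by rintro rfl; rw [one_smul] at hek; exact h₁₂ hek.symm
  have hXd : X ≠ d := by rintro rfl; exact h₁₂ (hek.symm.trans (heX.2 k₁ hk₁))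
  have hdvd : S.n ∣ Nat.card (S.El l) := by
    have h1 : (MulAction.orbit (S.El l) k₁).ncard = S.n := by
      rw [← S.ncard_pencil_sdiff hdl]
      congr 1
      ext m
      constructor
      · rintro ⟨f, rfl⟩
        refine ⟨(S.inc_fix_smul (S.El_ax f.2 d hdl) k₁).2 hk₁, fun h => h₁ ?_⟩
        exact MulAction.injective (f : Γ) ((show (f : Γ) • k₁ = l from h).trans (S.El_fix f.2).symm)
      · rintro ⟨hm, hml⟩
        obtain ⟨f, hf', hfm⟩ := htr k₁ m hk₁ h₁ hm hml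
        exact ⟨⟨f, hf'⟩, hfm⟩
    rw [← h1, ← MulAction.index_stabilizer]
    exact Subgroup.index_dvd_card _
  have hsingle : ∀ Y, S.inc Y l → ∀ f ∈ S.EC Y l, f ≠ 1 → Y = X := fun Y hY f hf' hf1 => by
    by_contra hne
    exact hpp (S.isPrimePow_of_two_dirs hY hX hne hf' heX hf1 he1 hdvd)
  have hEl : S.El l ≤ S.EC X l := fun f hf' => by
    obtain ⟨Y, hY, hfY⟩ := S.mem_El_iff.1 hf'
    by_cases h : f = 1
    · exact h ▸ one_mem _
    · exact hsingle Y hY f hfY h ▸ hfY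
  exact ⟨X, hX, hXd, dvd_trans hdvd (Subgroup.card_dvd_of_le hEl), ⟨e, heX, he1⟩, hsingle,
    fun k₁ k₂ a b c e => let ⟨f, hf', h⟩ := htr k₁ k₂ a b c e; ⟨f, hEl hf', h⟩⟩

theorem Full.conj {d : P} {l : L} (hf : S.Full d l) {g : Γ} (hg : g • d = d) : S.Full d (g • l) := by
  intro k hk hne
  obtain ⟨h, C, hh, hC⟩ := hf (g⁻¹ • k)
    ((S.inc_fix_smul (inv_smul_eq_iff.2 hg.symm) k).2 hk) fun e => hne (by rw [← e, smul_inv_smul])
  exact ⟨_, _, IsHom.conj S hh g, (S.smul_inc_iff g C k).2 hC⟩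

section Pairs

variable (hodd : Odd S.n)
  (hab : ∀ x y : P, x ≠ y → ∃ g C A, S.IsHom g C A ∧ g • x = x ∧ g • y = y)
  (habL : ∀ l m : L, l ≠ m → ∃ g C A, S.IsHom g C A ∧ g • l = l ∧ g • m = m)

include habL in
/-- Two lines through a point that is no centre. -/
theorem cover_pencil {d : P} (hd : ∀ g A, ¬ S.IsHom g d A) {k k' : L} (hk : S.inc d k)
    (hk' : S.inc d k') (hne : k ≠ k') :
    (∃ g C, S.IsHom g C k ∧ S.inc C k') ∨ ∃ g C, S.IsHom g C k' ∧ S.inc C k := by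
  obtain ⟨g, C, B, hg, h1, h2⟩ := habL k k' hne
  have hgd : g • d = d := S.fix_point hne h1 h2 hk hk'
  have hdB : S.inc d B :=
    (S.fixed_pt hg.ax hg.cen hg.ne_one hgd).resolve_left fun e => hd g B (e ▸ hg)
  rcases S.fixed_line hg.ax hg.cen hg.ne_one h1 with rfl | hCk
  · exact Or.inl ⟨g, C, hg, (S.fixed_line hg.ax hg.cen hg.ne_one h2).resolve_left hne.symm⟩
  rcases S.fixed_line hg.ax hg.cen hg.ne_one h2 with rfl | hCk'
  · exact Or.inr ⟨g, C, hg, hCk⟩
  · exact absurd (S.eq_point hne hk hk' hCk hCk' ▸ hg) (hd g B)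

include hodd habL in
/-- The structure at a point that is no centre, for non-prime-power order. -/
theorem noncentre_structure {d : P} (hd : ∀ g A, ¬ S.IsHom g d A) (hpp : ¬ IsPrimePow S.n) :
    (∀ l, S.inc d l → S.Full d l) ∧
      ∃ l l' g g' C, S.inc d l ∧ S.inc d l' ∧ l ≠ l' ∧ S.IsHom g C l ∧ S.IsHom g' C l' := by
  have := Fintype.ofFinite L
  let Pn := Finset.univ.filter fun k => S.inc d k
  have hPn : ∀ k, k ∈ Pn ↔ S.inc d k := fun k => by simp [Pn]
  have hPc : Pn.card = S.n + 1 := by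
    rw [← S.card_pencil d, ← Set.ncard_coe_finset]
    congr 1
    ext k
    simp [Pn]
  let out : L → Finset L := fun k => Pn.filter fun k' => k' ≠ k ∧ ∃ g C, S.IsHom g C k ∧ S.inc C k'
  obtain ⟨l, hlP, hlc⟩ : ∃ l ∈ Pn, S.n ≤ 2 * (out l).card := by
    by_contra! hall
    let R := (Pn ×ˢ Pn).filter fun x => x.2 ∈ out x.1
    have h1 : Pn.offDiag ⊆ R ∪ R.image Prod.swap := by
      rintro ⟨a, b⟩ hab'
      obtain ⟨ha, hb, hne⟩ := Finset.mem_offDiag.1 hab'
      rcases S.cover_pencil habL hd ((hPn a).1 ha) ((hPn b).1 hb) hne with h | h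
      · exact Finset.mem_union_left _ (Finset.mem_filter.2
          ⟨Finset.mem_product.2 ⟨ha, hb⟩, Finset.mem_filter.2 ⟨hb, hne.symm, h⟩⟩)
      · exact Finset.mem_union_right _ (Finset.mem_image.2 ⟨(b, a), Finset.mem_filter.2
          ⟨Finset.mem_product.2 ⟨hb, ha⟩, Finset.mem_filter.2 ⟨ha, hne, h⟩⟩, rfl⟩)
    have h2 := (Finset.card_le_card h1).trans
      ((Finset.card_union_le _ _).trans (Nat.add_le_add_left Finset.card_image_le _))
    have h3 : R.card ≤ ∑ k ∈ Pn, (out k).card := by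
      rw [Finset.card_eq_sum_card_fiberwise (f := Prod.fst) (t := Pn)
        fun x hx => (Finset.mem_product.1 (Finset.mem_filter.1 hx).1).1]
      refine Finset.sum_le_sum fun k _ => ?_
      refine Finset.card_le_card_of_injOn Prod.snd (fun x hx => ?_) ?_
      · obtain ⟨hxR, hxk⟩ := Finset.mem_filter.1 hx
        show x.2 ∈ out k
        rw [← hxk]
        exact (Finset.mem_filter.1 hxR).2
      · intro x hx y hy h
        exact Prod.ext ((Finset.mem_filter.1 hx).2.trans (Finset.mem_filter.1 hy).2.symm) h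
    have h4 : 2 * ∑ k ∈ Pn, (out k).card ≤ (S.n + 1) * (S.n - 1) := by
      rw [Finset.mul_sum, ← hPc]
      refine (Finset.sum_le_card_nsmul _ _ _ fun k hk => ?_).trans (le_of_eq (smul_eq_mul _ _))
      have := hall k hk
      omega
    rw [Finset.offDiag_card, hPc] at h2
    have := S.one_lt
    have e : (S.n + 1) * (S.n + 1) - (S.n + 1) = (S.n + 1) * S.n := by
      rw [← Nat.mul_sub_one]; rfl
    have e' : (S.n + 1) * (S.n - 1) < (S.n + 1) * S.n := Nat.mul_lt_mul_of_pos_left (by omega) (by omega)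
    omega
  have hdl : S.inc d l := (hPn l).1 hlP
  have hprop : ∀ k ∈ out l, S.inc d k ∧ k ≠ l ∧ ∃ g C, S.IsHom g C l ∧ S.inc C k := fun k hk => by
    obtain ⟨h1, h2⟩ := Finset.mem_filter.1 hk
    exact ⟨(hPn k).1 h1, h2⟩
  obtain ⟨k₀, hk₀⟩ : (out l).Nonempty := Finset.card_pos.1 (by have := S.one_lt; omega)
  obtain ⟨hdk₀, hk₀l, g₀, C₀, hg₀, hC₀⟩ := hprop k₀ hk₀
  have hfull : S.Full d l := by
    intro k hk hkl
    obtain ⟨e, he, rfl⟩ := S.El_transitive hodd hdl _ hprop hlc hdk₀ hk₀l hk hkl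
    have := IsHom.conj S hg₀ e
    rw [S.El_fix he] at this
    exact ⟨_, _, this, (S.smul_inc e C₀ k₀).2 hC₀⟩
  obtain ⟨X, hX, hXd, -, -, -, htr⟩ := S.full_cases hodd hdl hfull hpp
  -- a line `k ≠ l` with a centre off `l`
  obtain ⟨k, h, D, hdk, hkl, hh, hDl⟩ :
      ∃ k h D, S.inc d k ∧ k ≠ l ∧ S.IsHom h D k ∧ ¬ S.inc D l := by
    obtain ⟨k₁, hk₁, h₁, -⟩ := S.exists_pencil_avoid d l l
    obtain ⟨k₂, hk₂, h₂, h₁₂⟩ := S.exists_pencil_avoid d l k₁
    rcases S.cover_pencil habL hd hk₁ hk₂ h₁₂.symm with ⟨g, C, hg, hC⟩ | ⟨g, C, hg, hC⟩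
    · exact ⟨k₁, g, C, hk₁, h₁, hg, fun hCl => hd g k₁ ((S.eq_point h₂ hC hCl hk₂ hdl) ▸ hg)⟩
    · exact ⟨k₂, g, C, hk₂, h₂, hg, fun hCl => hd g k₂ ((S.eq_point h₁ hC hCl hk₁ hdl) ▸ hg)⟩
  obtain ⟨g, C, hg, hCk⟩ := hfull k hdk hkl
  have hgD : g • D ≠ D := fun e => by
    rcases S.fixed_pt hg.ax hg.cen hg.ne_one e with rfl | h'
    · exact hh.off hCk
    · exact hDl h'
  have hh' := IsHom.conj S hh g
  rw [hg.cen k hCk] at hh'
  obtain ⟨m, hCm, hDm⟩ := S.exists_line C D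
  obtain ⟨hε, hε1⟩ := IsHom.prod S hh' hh hgD (S.cen_collinear hg.cen hCm hDm) hDm hCm hCk
  set ε := g * h * g⁻¹ * h with hεdef
  have hεd : ε • d = d := hε.1 d hdk
  have hεl : ε • l ≠ l := fun e => by
    rcases S.fixed_line hε.1 hε.2 hε1 e with h' | h'
    · exact hkl h'.symm
    · exact hg.off h'
  have hg' := IsHom.conj S hg ε
  rw [Cen.fix S hε.2] at hg'
  have hdl' : S.inc d (ε • l) := (S.inc_fix_smul hεd l).2 hdl
  refine ⟨fun j hj => ?_, l, ε • l, g, _, C, hdl, hdl', hεl.symm, hg, hg'⟩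
  by_cases hjl : j = l
  · exact hjl ▸ hfull
  obtain ⟨e, he, rfl⟩ := htr (ε • l) j hdl' hεl hj hjl
  exact Full.conj S (Full.conj S hfull hεd) (he.1 d hdl)

include hodd hab habL in
/-- A point that is no centre forces prime power order. -/
theorem isPrimePow_of_noncentre {d : P} (hd : ∀ g A, ¬ S.IsHom g d A) : IsPrimePow S.n := by
  have := S.finite_group
  by_contra hpp
  obtain ⟨hfull, l₁, l₂, g₁, g₂, C, hd₁, hd₂, h₁₂, hg₁, hg₂⟩ := S.noncentre_structure hodd habL hd hpp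
  obtain ⟨d₂, hd₂d, hd₂n⟩ : ∃ d₂, d₂ ≠ d ∧ ∀ g A, ¬ S.IsHom g d₂ A := by
    by_contra! hall
    -- every homology fixes `d`
    have hfixd : ∀ g D B, S.IsHom g D B → S.inc d B := by
      intro g D B hg
      by_contra hdB
      by_cases hgd : g • d = d
      · exact hdB ((S.fixed_pt hg.ax hg.cen hg.ne_one hgd).resolve_left fun e => hd g B (e ▸ hg))
      obtain ⟨h, A, hh⟩ := hall (g • d) hgd
      refine hd (g⁻¹ * h * g⁻¹⁻¹) (g⁻¹ • A) ?_
      have := IsHom.conj S hh g⁻¹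
      rwa [inv_smul_smul] at this
    have := Fintype.ofFinite L
    have := Fintype.ofFinite P
    let Pn := Finset.univ.filter fun k => S.inc d k
    let cs : L → Finset P := fun A => Finset.univ.filter fun x => ∃ g, S.IsHom g x A
    have hcs : ∀ A ∈ Pn, (cs A).card ≤ S.n := by
      intro A hA
      have hdA : S.inc d A := (Finset.mem_filter.1 hA).2
      obtain ⟨X, hX, -, -, -, hsingle, -⟩ := S.full_cases hodd hdA (hfull A hdA) hpp
      rcases Finset.eq_empty_or_nonempty (cs A) with h | ⟨x₀, hx₀⟩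
      · simp [h]
      obtain ⟨g₀, hg₀⟩ := (Finset.mem_filter.1 hx₀).2
      obtain ⟨M, hxM, hXM⟩ := S.exists_line x₀ X
      have hsub : (cs A : Set P) ⊆ {q | S.inc q M} \ {X} := by
        intro x hx
        obtain ⟨g, hg⟩ := (Finset.mem_filter.1 hx).2
        refine ⟨?_, fun e : x = X => hg.off (e ▸ hX)⟩
        by_cases hxx : x = x₀
        · exact hxx ▸ hxM
        obtain ⟨m, hm, hm₀⟩ := S.exists_line x x₀
        obtain ⟨Y, hYm, hYA⟩ := S.exists_inter m A
        obtain ⟨hY, hY1⟩ := IsHom.prod S hg hg₀ hxx hm hm₀ hYm hYA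
        obtain rfl := hsingle Y hYA _ hY hY1
        show S.inc x M
        rwa [S.eq_line (fun e : x₀ = Y => hg₀.off (e ▸ hX)) hxM hXM hm₀ hYm]
      calc (cs A).card = (cs A : Set P).ncard := (Set.ncard_coe_finset _).symm
        _ ≤ ({q | S.inc q M} \ {X}).ncard := Set.ncard_le_ncard hsub (Set.toFinite _)
        _ = S.n := S.ncard_line_sdiff hXM
    let cs' : L → Finset P := fun A => if A = l₂ then (cs A).erase C else cs A
    have hcov : Finset.univ.erase d ⊆ Pn.biUnion cs' := by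
      intro x hx
      obtain ⟨g, A, hg⟩ := hall x (Finset.mem_erase.1 hx).1
      have hdA := hfixd g x A hg
      refine Finset.mem_biUnion.2 ?_
      by_cases hc : A = l₂ ∧ x = C
      · exact ⟨l₁, by simp [Pn, hd₁], by
          simp only [cs', if_neg h₁₂, cs, Finset.mem_filter, Finset.mem_univ, true_and]
          exact ⟨g₁, hc.2 ▸ hg₁⟩⟩
      · refine ⟨A, by simp [Pn, hdA], ?_⟩
        have hxA : x ∈ cs A := Finset.mem_filter.2 ⟨Finset.mem_univ _, g, hg⟩
        simp only [cs']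
        split_ifs with h
        · exact Finset.mem_erase.2 ⟨fun e => hc ⟨h, e⟩, hxA⟩
        · exact hxA
    have h1 := (Finset.card_le_card hcov).trans Finset.card_biUnion_le
    have h2 : ∑ A ∈ Pn, (cs' A).card < ∑ A ∈ Pn, S.n := by
      refine Finset.sum_lt_sum (fun A hA => ?_) ⟨l₂, by simp [Pn, hd₂], ?_⟩
      · refine le_trans ?_ (hcs A hA)
        simp only [cs']
        split_ifs
        · exact Finset.card_erase_le
        · exact le_rfl
      · have hC : C ∈ cs l₂ := Finset.mem_filter.2 ⟨Finset.mem_univ _, _, hg₂⟩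
        simp only [cs', if_true]
        exact lt_of_lt_of_le (Finset.card_erase_lt_of_mem hC) (hcs l₂ (by simp [Pn, hd₂]))
    have hPc : Pn.card = S.n + 1 := by
      rw [← S.card_pencil d, ← Set.ncard_coe_finset]
      congr 1
      ext k
      simp [Pn]
    rw [Finset.sum_const, smul_eq_mul, hPc] at h2
    rw [Finset.card_erase_of_mem (Finset.mem_univ d), Finset.card_univ, ← Nat.card_eq_fintype_card,
      S.card_P] at h1
    have : S.n ^ 2 + S.n = (S.n + 1) * S.n := by ring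
    omega
  obtain ⟨m, hdm, hd₂m⟩ := S.exists_line d d₂
  obtain ⟨l, hdl, hlm, -⟩ := S.exists_pencil_avoid d m m
  have hd₂l : ¬ S.inc d₂ l := fun h => hlm (S.eq_line hd₂d.symm hdl h hdm hd₂m)
  obtain ⟨X, hX, -, hdvd, ⟨e, he, he1⟩, -, -⟩ := S.full_cases hodd hdl (hfull l hdl) hpp
  obtain ⟨j, hXj, hd₂j⟩ := S.exists_line X d₂
  have hjl : j ≠ l := fun h => hd₂l (h ▸ hd₂j)
  obtain ⟨hfull₂, -⟩ := S.noncentre_structure hodd habL hd₂n hpp
  obtain ⟨Z, hZ, -, -, ⟨f, hf, hf1⟩, hsingle, -⟩ := S.full_cases hodd hd₂j (hfull₂ j hd₂j) hpp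
  have hej : e • j = j := he.2 j hXj
  have heZ : e • Z = Z := by
    have := S.EC_conj e hf
    rw [hej] at this
    exact hsingle _ ((S.inc_smul_fix hej Z).2 hZ) _ this fun h => hf1 (conj_eq_one_iff.1 h)
  obtain rfl : Z = X := by
    rcases S.fixed_pt he.1 he.2 he1 heZ with h | h
    · exact h
    · exact S.eq_point hjl hZ h hXj hX
  refine hpp (S.dual.isPrimePow_of_two_dirs (A := Z) (X := j) (Y := l) hZ hX hjl
    (show f ∈ S.dual.EC j Z by rw [S.dual_EC]; exact hf)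
    (show e ∈ S.dual.EC l Z by rw [S.dual_EC]; exact he) hf1 he1 ?_)
  refine dvd_trans hdvd (Subgroup.card_dvd_of_le fun x hx => S.dual.EC_le_El (X := l) hX ?_)
  rw [S.dual_EC]
  exact hx

end Pairs

end Cfsg.Agent.OstromWagner.Geo
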