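import Cfsg.Agent.Lib.OstromWagner.Noncentre

/-!
# Enough involutory homologies force prime power order

In a plane of odd order in which every two points and every two lines are fixed by an involutory
homology, the order is a prime power.
-/

set_option autoImplicit false
set_option linter.unusedSectionVars false
set_option linter.unusedVariables false

open scoped Classical

namespace Cfsg.Agent.OstromWagner

/-- A symmetric incidence matrix of a plane has a nonzero diagonal entry. -/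
theorem exists_absolute {ι : Type*} [Fintype ι] (r : ℕ) (hr : Odd r) (hr1 : 1 < r)
    (hcard : Fintype.card ι = r ^ 2 + r + 1) (R : ι → ι → Prop) (hsymm : ∀ i j, R i j → R j i)
    (hrow : ∀ i, {j | R i j}.ncard = r + 1)
    (hpair : ∀ i j, i ≠ j → ∃! k, R i k ∧ R j k) : ∃ i, R i i := by
  by_contra! hirr
  obtain ⟨p, hp, hpr⟩ := Nat.exists_prime_and_dvd (show r ≠ 1 by omega)
  have := Fact.mk hp
  obtain ⟨c, rfl⟩ := Nat.Prime.odd_of_ne_two hp (by
    rintro rfl
    exact hr.not_two_dvd_nat hpr)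
  set M : Matrix ι ι (ZMod (2 * c + 1)) := Matrix.of fun i j => if R i j then 1 else 0 with hM
  set J : Matrix ι ι (ZMod (2 * c + 1)) := Matrix.of fun _ _ => 1 with hJ
  have hr0 : ((r : ℕ) : ZMod (2 * c + 1)) = 0 := (ZMod.natCast_eq_zero_iff _ _).2 hpr
  have hcount : ∀ q : ι → Prop, (∑ k, if q k then (1 : ZMod (2 * c + 1)) else 0) = ({k | q k}.ncard : ℕ) := by
    intro q
    rw [Finset.sum_boole, Set.ncard_eq_toFinset_card']
    congr 2
    ext k
    simp
  have hMM : M * M = J := by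
    ext i j
    have e : (M * M) i j = ∑ k, if R i k ∧ R j k then (1 : ZMod (2 * c + 1)) else 0 := by
      simp only [hM, Matrix.mul_apply, Matrix.of_apply, ite_mul, one_mul, zero_mul, ← ite_and]
      refine Finset.sum_congr rfl fun k _ => if_congr ?_ rfl rfl
      exact and_congr_right fun _ => ⟨hsymm _ _, hsymm _ _⟩
    rw [e]
    trans (({k | R i k ∧ R j k}.ncard : ℕ) : ZMod (2 * c + 1))
    · convert hcount (fun k => R i k ∧ R j k) using 3
    by_cases h : i = j
    · subst h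
      simp only [and_self, hrow, hJ, Matrix.of_apply, Nat.cast_add, Nat.cast_one, hr0, zero_add]
    · obtain ⟨k, hk, huniq⟩ := hpair i j h
      have hs : {k | R i k ∧ R j k} = {k} := Set.ext fun x =>
        ⟨fun hx => huniq x hx, fun (hx : x = k) => hx ▸ hk⟩
      simp only [hs, Set.ncard_singleton, hJ, Matrix.of_apply, Nat.cast_one]
  have hMJ : M * J = J := by
    ext i j
    simp only [hM, hJ, Matrix.mul_apply, Matrix.of_apply, mul_one]
    rw [hcount, hrow, Nat.cast_add, Nat.cast_one, hr0, zero_add]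
  have hJJ : J * J = J := by
    ext i j
    simp only [hJ, Matrix.mul_apply, Matrix.of_apply, mul_one, Finset.sum_const, Finset.card_univ,
      nsmul_eq_mul, hcard, Nat.cast_add, Nat.cast_pow, Nat.cast_one, hr0]
    simp
  have hpow : M ^ (2 * c + 1) = J := by
    have : ∀ k, 0 < k → M ^ (2 * k) = J := by
      intro k hk
      induction k with
      | zero => omega
      | succ k ih =>
        rw [mul_add, pow_add, mul_one, pow_two, hMM]
        rcases Nat.eq_zero_or_pos k with rfl | h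
        · simp
        · rw [ih h, hJJ]
    rw [pow_succ', this c (by have := hp.two_le; omega), hMJ]
  have h1 := ZMod.trace_pow_card M
  rw [hpow, show M.trace = 0 from Finset.sum_eq_zero fun i _ => by
    simp [hM, hirr i], zero_pow hp.ne_zero] at h1
  have h2 : J.trace = 1 := by
    simp [hJ, Matrix.trace, hcard, hr0]
  rw [h2] at h1
  exact one_ne_zero h1

namespace Geo

variable {Γ P L : Type*} [Group Γ] [MulAction Γ P] [MulAction Γ L] (S : Geo Γ P L) [Finite P] [Finite L]

/-- A line with several centres whose elations have one direction. -/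
theorem isPrimePow_of_single (hcen : ∀ d : P, ∃ g A, S.IsHom g d A) {l : L} {g₁ g₂ : Γ} {C₁ C₂ : P}
    (h₁ : S.IsHom g₁ C₁ l) (h₂ : S.IsHom g₂ C₂ l) (hne : C₁ ≠ C₂) {X : P} (hX : S.inc X l)
    (hsingle : ∀ Y, S.inc Y l → ∀ e ∈ S.EC Y l, e ≠ 1 → Y = X) : IsPrimePow S.n := by
  have := S.finite_group
  obtain ⟨M, hC₁M, hXM⟩ := S.exists_line C₁ X
  have hMl : M ≠ l := fun e => h₁.off (e ▸ hC₁M)
  have honM : ∀ g C, S.IsHom g C l → S.inc C M := by
    intro g C hg
    by_cases hC : C = C₁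
    · exact hC ▸ hC₁M
    obtain ⟨m, hm, hm₁⟩ := S.exists_line C C₁
    obtain ⟨Y, hYm, hYl⟩ := S.exists_inter m l
    obtain ⟨hY, hY1⟩ := IsHom.prod S hg h₁ hC hm hm₁ hYm hYl
    obtain rfl := hsingle Y hYl _ hY hY1
    rwa [S.eq_line (fun e : C₁ = Y => h₁.off (e ▸ hX)) hC₁M hXM hm₁ hYm]
  have hC₂M := honM _ _ h₂
  obtain ⟨heX, he1⟩ := IsHom.prod S h₁ h₂ hne hC₁M hC₂M hXM hX
  -- the points of `l` other than `X` are centres with axis `M`
  have key : ∀ Y, S.inc Y l → Y ≠ X → ∃ τ, S.IsHom τ Y M := by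
    intro Y hY hYX
    obtain ⟨τ, B, hτ⟩ := hcen Y
    have hYM : ¬ S.inc Y M := fun h => hYX (S.eq_point hMl.symm hY h hX hXM)
    have hon : ∀ g C, S.IsHom g C l → S.inc C B := by
      intro g C hg
      have hCY : C ≠ Y := fun e => hg.off (e ▸ hY)
      have hconj := IsHom.conj S hg τ
      rw [hτ.cen l hY] at hconj
      obtain ⟨m, hCm, hYm⟩ := S.exists_line C Y
      have e : τ • C = C := S.eq_point (fun e : m = M => hYM (e ▸ hYm))
        (S.cen_collinear hτ.cen hYm hCm) (honM _ _ hconj) hCm (honM _ _ hg)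
      exact (S.fixed_pt hτ.ax hτ.cen hτ.ne_one e).resolve_left hCY
    exact ⟨τ, S.eq_line hne (hon _ _ h₁) (hon _ _ h₂) hC₁M hC₂M ▸ hτ⟩
  obtain ⟨Y₀, hY₀, hY₀X, -⟩ := S.exists_line_avoid l X X
  obtain ⟨τ₀, hτ₀⟩ := key Y₀ hY₀ hY₀X
  have hch : ∀ Y ∈ {q | S.inc q l} \ {X}, ∃ τ, S.IsHom τ Y M := fun Y hY => key Y hY.1 hY.2
  choose! τ hτ using hch
  let f : P → Γ := fun Y => if Y = Y₀ then 1 else τ Y * τ₀
  have hf : ∀ Y ∈ {q | S.inc q l} \ {X}, f Y ∈ S.EC X M := by
    intro Y hY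
    simp only [f]
    split_ifs with h
    · exact one_mem _
    · exact (IsHom.prod S (hτ Y hY) hτ₀ h hY.1 hY₀ hX hXM).1
  have hinj : Set.InjOn f ({q | S.inc q l} \ {X}) := by
    intro Y hY Y' hY' he
    simp only [f] at he
    split_ifs at he with h h' h'
    · exact h.trans h'.symm
    · exact absurd he.symm (IsHom.prod S (hτ Y' hY') hτ₀ h' hY'.1 hY₀ hX hXM).2
    · exact absurd he (IsHom.prod S (hτ Y hY) hτ₀ h hY.1 hY₀ hX hXM).2
    · by_contra hne'
      have e := mul_right_cancel he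
      exact (hτ Y hY).ne_one
        (S.eq_one_of_two_centres (hτ Y hY).cen (e ▸ (hτ Y' hY').cen) hne')
  have hle : S.n ≤ Nat.card (S.EC X M) := by
    rw [← S.ncard_line_sdiff hX]
    exact Set.ncard_le_ncard_of_injOn f hf hinj (Set.toFinite _)
  have hcard : Nat.card (S.EC X M) = S.n :=
    le_antisymm (Nat.le_of_dvd (by have := S.one_lt; omega) (S.card_EC_dvd hXM)) hle
  obtain ⟨⟨u, hu⟩, hu1⟩ : ∃ u : S.EC X M, u ≠ 1 := by
    have : Nontrivial (S.EC X M) := Finite.one_lt_card_iff_nontrivial.1 (by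
      have := S.one_lt; omega)
    exact exists_ne 1
  refine S.dual.isPrimePow_of_two_dirs (A := X) (X := M) (Y := l) hXM hX hMl
    (show u ∈ S.dual.EC M X by rw [S.dual_EC]; exact hu)
    (show g₁ * g₂ ∈ S.dual.EC l X by rw [S.dual_EC]; exact heX)
    (fun e => hu1 (Subtype.ext e)) he1 ?_
  show S.n ∣ _
  rw [← hcard]
  refine Subgroup.card_dvd_of_le fun x hx => S.dual.EC_le_El (X := M) hXM ?_
  rw [S.dual_EC]
  exact hx

/-- Centres of one axis on a common line: one direction only. -/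
theorem single_of_collinear {l B : L} {g₁ : Γ} {C₁ : P} (h₁ : S.IsHom g₁ C₁ l)
    (hon : ∀ g C, S.IsHom g C l → S.inc C B) {X : P} (hXB : S.inc X B) (hXl : S.inc X l) :
    ∀ Y, S.inc Y l → ∀ e ∈ S.EC Y l, e ≠ 1 → Y = X := by
  intro Y hY e he he1
  have hne : e • C₁ ≠ C₁ := fun h => he1 (S.EC_eq_one hY he h₁.off h)
  have hconj := IsHom.conj S h₁ e
  rw [Ax.fix S he.1] at hconj
  obtain ⟨m, hYm, hCm⟩ := S.exists_line Y C₁
  obtain rfl := S.eq_line hne (hon _ _ hconj) (hon _ _ h₁) (S.cen_collinear he.2 hYm hCm) hCm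
  exact S.eq_point (fun e : B = l => h₁.off (e ▸ hCm)) hYm hY hXB hXl

/-- A line with several centres has elations with every centre on it, or the order is a prime power. -/
theorem full_or_unique (hcen : ∀ d : P, ∃ g A, S.IsHom g d A) (hpp : ¬ IsPrimePow S.n) (l : L) :
    (∀ g C g' C', S.IsHom g C l → S.IsHom g' C' l → C = C') ∨
      ∀ Y, S.inc Y l → ∃ e ∈ S.EC Y l, e ≠ 1 := by
  refine or_iff_not_imp_left.2 fun h => ?_
  push Not at h
  obtain ⟨g₁, C₁, g₂, C₂, h₁, h₂, hne⟩ := h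
  intro Y hY
  by_contra! hno
  obtain ⟨τ, B, hτ⟩ := hcen Y
  have hon : ∀ g C, S.IsHom g C l → S.inc C B := by
    intro g C hg
    have hCY : C ≠ Y := fun e => hg.off (e ▸ hY)
    have hconj := IsHom.conj S hg τ
    rw [hτ.cen l hY] at hconj
    by_cases e : τ • C = C
    · exact (S.fixed_pt hτ.ax hτ.cen hτ.ne_one e).resolve_left hCY
    obtain ⟨m, hCm, hYm⟩ := S.exists_line C Y
    obtain ⟨hp, hp1⟩ :=
      IsHom.prod S hconj hg e (S.cen_collinear hτ.cen hYm hCm) hCm hYm hY
    exact absurd (hno _ hp) hp1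
  obtain ⟨X, hXB, hXl⟩ := S.exists_inter B l
  exact hpp (S.isPrimePow_of_single hcen h₁ h₂ hne hXl (S.single_of_collinear h₁ hon hXB hXl))

/-- A line with a unique centre: each of its points has a unique axis, through that centre. -/
theorem unique_point (haxis : ∀ l : L, ∃ g C, S.IsHom g C l) (hpp : ¬ IsPrimePow S.n) {l : L}
    (hu : ∀ g C g' C', S.IsHom g C l → S.IsHom g' C' l → C = C') {g₀ : Γ} {C : P}
    (h₀ : S.IsHom g₀ C l) {Y : P} (hY : S.inc Y l) :
    (∀ τ B, S.IsHom τ Y B → S.inc C B) ∧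
      ∀ τ B τ' B', S.IsHom τ Y B → S.IsHom τ' Y B' → B = B' := by
  have hon : ∀ τ B, S.IsHom τ Y B → S.inc C B := by
    intro τ B hτ
    have hconj := IsHom.conj S h₀ τ
    rw [hτ.cen l hY] at hconj
    exact (S.fixed_pt hτ.ax hτ.cen hτ.ne_one (hu _ _ _ _ hconj h₀)).resolve_left
      fun e => h₀.off (e ▸ hY)
  refine ⟨hon, fun τ B τ' B' hτ hτ' => ?_⟩
  by_contra hne
  obtain ⟨k, hYk, hCk⟩ := S.exists_line Y C
  exact hpp (S.dual.isPrimePow_of_single (fun d => by
      obtain ⟨g, c, hg⟩ := haxis d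
      exact ⟨g, c, IsHom.dual S hg⟩) (IsHom.dual S hτ) (IsHom.dual S hτ') hne hYk
    (S.dual.single_of_collinear (IsHom.dual S hτ)
      (fun g B'' hg => hon g B'' (IsHom.of_dual S hg)) hCk hYk))

/-- A line through a point with a unique axis has a unique centre. -/
theorem unique_line (hcen : ∀ d : P, ∃ g A, S.IsHom g d A) (hpp : ¬ IsPrimePow S.n) {Y : P}
    (hu : ∀ τ B τ' B', S.IsHom τ Y B → S.IsHom τ' Y B' → B = B') {m : L} (hm : S.inc Y m) :
    ∀ g C g' C', S.IsHom g C m → S.IsHom g' C' m → C = C' := by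
  intro g C g' C' hg hg'
  by_contra hne
  obtain ⟨τ, B, hτ⟩ := hcen Y
  have hon : ∀ h D, S.IsHom h D m → S.inc D B := by
    intro h D hh
    have hconj := IsHom.conj S hτ h
    rw [hh.ax Y hm] at hconj
    rcases S.fixed_line hh.ax hh.cen hh.ne_one (hu _ _ _ _ hconj hτ) with e | h'
    · exact absurd (e ▸ hm) hτ.off
    · exact h'
  obtain ⟨X, hXB, hXm⟩ := S.exists_inter B m
  exact hpp (S.isPrimePow_of_single hcen hg hg' hne hXm (S.single_of_collinear hg hon hXB hXm))

/-- The order is a prime power if every flag carries a nontrivial elation. -/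
theorem isPrimePow_of_elations (h : ∀ (Y : P) (l : L), S.inc Y l → ∃ e ∈ S.EC Y l, e ≠ 1) :
    IsPrimePow S.n := by
  have := S.finite_group
  have := Fintype.ofFinite P
  -- data of one line
  have hline : ∀ l : L, ∃ p a, p.Prime ∧ Nat.card (S.El l) = p ^ a ∧ (∀ e ∈ S.El l, e ^ p = 1) ∧
      S.n < Nat.card (S.El l) := by
    intro l
    obtain ⟨X, hX, -, -⟩ := S.exists_line_avoid l (S.exists_off l).choose (S.exists_off l).choose
    obtain ⟨Y, hY, hYX, -⟩ := S.exists_line_avoid l X X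
    obtain ⟨g, hg, hg1⟩ := h X l hX
    obtain ⟨g', hg', hg'1⟩ := h Y l hY
    obtain ⟨p, a, hp, hc, hexp⟩ := S.exists_prime_El hX hY hYX.symm hg hg' hg1 hg'1
    refine ⟨p, a, hp, hc, hexp, ?_⟩
    have hch : ∀ Z ∈ {q | S.inc q l}, ∃ e ∈ S.EC Z l, e ≠ 1 := fun Z hZ => h Z l hZ
    choose! f hf hf1 using hch
    have := Set.ncard_le_ncard_of_injOn (s := {q | S.inc q l}) f (fun Z hZ => S.EC_le_El hZ (hf Z hZ))
      (fun Z hZ Z' hZ' e => by
        by_contra hne
        exact hf1 Z hZ (S.EC_inf hne (hf Z hZ) (e ▸ hf Z' hZ')))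
      (t := (S.El l : Set Γ)) (Set.toFinite _)
    rw [S.card_line, ← Nat.card_coe_set_eq] at this
    exact Nat.lt_of_succ_le this
  -- all lines have the same prime
  have huniq : ∀ l m : L, ∀ p a q b, p.Prime → Nat.card (S.El l) = p ^ a → S.n < p ^ a → q.Prime →
      Nat.card (S.El m) = q ^ b → S.n < q ^ b → p = q := by
    intro l m p a q b hp hc hlt hq hc' hlt'
    by_contra hne
    have hd := (Nat.Coprime.pow a b ((Nat.coprime_primes hp hq).2 hne)).mul_dvd_of_dvd_of_dvd
      (hc ▸ S.card_El_dvd l) (hc' ▸ S.card_El_dvd m)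
    have := Nat.le_of_dvd (by have := S.one_lt; positivity) hd
    nlinarith
  obtain ⟨l⟩ := (Nat.card_pos_iff.1 (show 0 < Nat.card L by rw [S.card_L]; omega)).1
  obtain ⟨p, a, hp, hcl, hexp, hlt⟩ := hline l
  rw [hcl] at hlt
  have hprime : ∀ m : L, ∀ e ∈ S.El m, e ^ p = 1 := by
    intro m
    obtain ⟨q, b, hq, hcm, hexp', hlt'⟩ := hline m
    rw [huniq l m p a q b hp hcl hlt hq hcm (hcm ▸ hlt')]
    exact hexp'
  have := Fact.mk hp
  -- the stabiliser of `l` is transitive on `l`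
  let St := MulAction.stabilizer Γ l
  let O : P → Set P := fun X => MulAction.orbit St X
  have hOl : ∀ {X}, S.inc X l → ∀ Z ∈ O X, S.inc Z l := by
    rintro X hX _ ⟨s, rfl⟩
    exact (S.inc_smul_fix s.2 X).2 hX
  have hmod : ∀ {Z Y}, S.inc Z l → S.inc Y l →
      (O Y).ncard ≡ (if Z ∈ O Y then 1 else 0) [MOD p] := by
    intro Z Y hZ hY
    obtain ⟨k, hZk, hkl, -⟩ := S.exists_pencil_avoid Z l l
    obtain ⟨e, he, he1⟩ := h Z k hZk
    have hel : e • l = l := he.2 l hZ
    have hep : e ^ p = 1 := hprime k e (S.EC_le_El hZk he)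
    let E : Subgroup St := Subgroup.zpowers ⟨e, hel⟩
    have hE : IsPGroup p E := by
      refine IsPGroup.of_card (n := 1) ?_
      rw [pow_one, Nat.card_zpowers]
      refine orderOf_eq_prime (Subtype.ext (by simpa using hep)) fun e' => he1 ?_
      exact congrArg Subtype.val e'
    have hm := hE.card_modEq_card_fixedPoints (α := MulAction.orbit St Y)
    rw [Nat.card_coe_set_eq] at hm
    refine hm.trans (congrArg (· % p) ?_)
    have hfix : ∀ W : MulAction.orbit St Y, W ∈ MulAction.fixedPoints E (MulAction.orbit St Y) ↔ W.1 = Z := by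
      intro W
      constructor
      · intro hW
        have hfx : e • W.1 = W.1 := congrArg Subtype.val (hW ⟨⟨e, hel⟩, Subgroup.mem_zpowers _⟩)
        rcases S.fixed_pt he.1 he.2 he1 hfx with h' | h'
        · exact h'
        · exact S.eq_point hkl h' (hOl hY _ W.2) hZk hZ
      · rintro hWZ ⟨s, hs⟩
        have hs' : s ∈ MulAction.stabilizer St (W : P) := by
          refine (Subgroup.zpowers_le.2 ?_) hs
          show e • W.1 = W.1
          rw [hWZ]
          exact he.1 Z hZk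
        exact Subtype.ext hs'
    split_ifs with hZY
    · rw [Nat.card_eq_one_iff_exists]
      exact ⟨⟨⟨Z, hZY⟩, (hfix _).2 rfl⟩, fun W => Subtype.ext (Subtype.ext ((hfix _).1 W.2))⟩
    · rw [Nat.card_eq_zero]
      exact Or.inl ⟨fun W => hZY ((hfix _).1 W.2 ▸ W.1.2)⟩
  have htrans : ∀ {X Y}, S.inc X l → S.inc Y l → ∃ s : Γ, s • l = l ∧ s • X = Y := by
    intro X Y hX hY
    by_contra hno
    have hXY : X ∉ O Y := fun ⟨s, hs⟩ => hno ⟨(s : Γ)⁻¹,
      inv_smul_eq_iff.2 (MulAction.mem_stabilizer_iff.1 s.2).symm, inv_smul_eq_iff.2 hs.symm⟩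
    have h1 := (hmod (Z := Y) hY hY)
    have h0 := (hmod (Z := X) hX hY)
    rw [if_pos (show Y ∈ O Y from MulAction.mem_orbit_self _)] at h1
    rw [if_neg hXY] at h0
    have := h1.symm.trans h0
    rw [Nat.ModEq, Nat.zero_mod, Nat.mod_eq_of_lt hp.one_lt] at this
    exact one_ne_zero this
  obtain ⟨X, hX, -, -⟩ := S.exists_line_avoid l (S.exists_off l).choose (S.exists_off l).choose
  set ε := Nat.card (S.EC X l) with hε
  have heq : ∀ Y, S.inc Y l → Nat.card (S.EC Y l) = ε := by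
    intro Y hY
    obtain ⟨s, hsl, rfl⟩ := htrans hX hY
    symm
    refine Nat.card_congr
      { toFun := fun x => ⟨s * x.1 * s⁻¹, by have := S.EC_conj s x.2; rwa [hsl] at this⟩
        invFun := fun x => ⟨s⁻¹ * x.1 * s⁻¹⁻¹, by
          have := S.EC_conj s⁻¹ x.2
          rwa [inv_smul_smul, inv_smul_eq_iff.2 hsl.symm] at this⟩
        left_inv := fun x => Subtype.ext (by group)
        right_inv := fun x => Subtype.ext (by group) }
  -- the elation group is partitioned by the directions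
  have hcount : Nat.card (S.El l) = 1 + (S.n + 1) * (ε - 1) := by
    have := Fintype.ofFinite Γ
    let T : P → Finset Γ := fun Y => Finset.univ.filter fun e => e ∈ S.EC Y l ∧ e ≠ 1
    let F := Finset.univ.filter fun Y => S.inc Y l
    have hF : F.card = S.n + 1 := by
      rw [← S.card_line l, ← Set.ncard_coe_finset]
      congr 1
      ext Y
      simp [F]
    have hT : ∀ Y ∈ F, (T Y).card = ε - 1 := by
      intro Y hY
      rw [← heq Y (Finset.mem_filter.1 hY).2]
      have : T Y = (Finset.univ.filter fun e => e ∈ S.EC Y l).erase 1 := by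
        ext e; simp [T, and_comm]
      rw [this, Finset.card_erase_of_mem (by simp [one_mem]), Nat.card_eq_fintype_card,
        Fintype.card_subtype]
    have hu : (Finset.univ.filter fun e => e ∈ S.El l).erase 1 = F.biUnion T := by
      ext e
      simp only [Finset.mem_erase, Finset.mem_filter, Finset.mem_univ, true_and, Finset.mem_biUnion, T, F]
      constructor
      · rintro ⟨he1, he⟩
        obtain ⟨Y, hY, heY⟩ := S.mem_El_iff.1 he
        exact ⟨Y, hY, heY, he1⟩
      · rintro ⟨Y, hY, heY, he1⟩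
        exact ⟨he1, S.EC_le_El hY heY⟩
    have hd : (F : Set P).PairwiseDisjoint T := by
      intro Y _ Y' _ hne
      rw [Function.onFun, Finset.disjoint_left]
      intro e he he'
      obtain ⟨h1, h2⟩ := (Finset.mem_filter.1 he).2
      exact h2 (S.EC_inf hne h1 (Finset.mem_filter.1 he').2.1)
    have h1 := congrArg Finset.card hu
    rw [Finset.card_biUnion hd, Finset.sum_congr rfl hT, Finset.sum_const, smul_eq_mul, hF,
      Finset.card_erase_of_mem (by simp [one_mem]), ← Fintype.card_subtype,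
      ← Nat.card_eq_fintype_card] at h1
    have := Nat.card_pos (α := S.El l)
    omega
  -- arithmetic
  have hdiv : ε ∣ p ^ a := hcl ▸ Subgroup.card_dvd_of_le (S.EC_le_El hX)
  obtain ⟨c, hca, hεp⟩ := (Nat.dvd_prime_pow hp).1 hdiv
  have hc0 : 0 < c := by
    rcases Nat.eq_zero_or_pos c with rfl | h'
    · obtain ⟨e, he, he1⟩ := h X l hX
      have := Subgroup.card_eq_one.1 (show Nat.card (S.EC X l) = 1 by rw [← hε, hεp, pow_zero])
      rw [this] at he
      exact absurd (Subgroup.mem_bot.1 he) he1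
    · exact h'
  obtain ⟨f, hf⟩ : p ^ c ∣ S.n := hεp ▸ S.card_EC_dvd hX
  refine ⟨p, c, hp.prime, hc0, ?_⟩
  rw [hcl, hεp] at hcount
  have hsq : p ^ a ∣ (p ^ c) ^ 2 * f ^ 2 := by
    rw [← mul_pow, ← hf, ← hcl]
    exact S.card_El_dvd l
  obtain ⟨E, hE⟩ : ∃ E, p ^ c = E + 1 := ⟨p ^ c - 1, by have := Nat.one_le_pow c p hp.pos; omega⟩
  obtain ⟨b, hb⟩ : ∃ b, a = c + b := ⟨a - c, by omega⟩
  have hE1 : 1 ≤ E := by
    have : 2 ≤ p ^ c := le_trans hp.two_le (Nat.le_self_pow hc0.ne' p)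
    omega
  -- `p ^ b + f = n + 1`
  have hkey : p ^ b + f = S.n + 1 := by
    refine Nat.eq_of_mul_eq_mul_left (show 0 < p ^ c by omega) ?_
    rw [mul_add, ← pow_add, ← hb, ← hf, hcount, hE, Nat.add_sub_cancel]
    ring
  have hb0 : 0 < b := by
    rcases Nat.eq_zero_or_pos b with rfl | h'
    · rw [pow_zero] at hkey
      have : f = S.n := by omega
      rw [this] at hf
      nlinarith [S.one_lt]
    · exact h'
  have hpf : ¬ p ∣ f := by
    intro hdf
    have h1 : p ∣ S.n + 1 := hkey ▸ dvd_add (dvd_pow_self p hb0.ne') hdf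
    have h2 : p ∣ S.n := hf ▸ (dvd_pow_self p hc0.ne').mul_right f
    exact hp.not_dvd_one ((Nat.dvd_add_right h2).1 h1)
  have h2 : p ^ a ∣ (p ^ c) ^ 2 :=
    (Nat.Coprime.pow a 2 ((Nat.Prime.coprime_iff_not_dvd hp).2 hpf)).dvd_of_dvd_mul_right hsq
  have h3 : p ^ b ≤ p ^ c := by
    rw [hb, pow_add, sq] at h2
    exact Nat.le_of_dvd (pow_pos hp.pos _) (Nat.dvd_of_mul_dvd_mul_left (pow_pos hp.pos _) h2)
  have hf1 : f = 1 := by
    rcases Nat.lt_or_ge f 2 with h' | h'
    · rcases Nat.eq_zero_or_pos f with rfl | h''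
      · simp at hpf
      · omega
    · rw [hE] at h3 hf
      nlinarith [Nat.mul_le_mul_left E h']
  rw [hf1, mul_one] at hf
  exact hf.symm

/-- Enough involutory homologies force prime power order. -/
theorem isPrimePow_of_abundance (hodd : Odd S.n)
    (hab : ∀ x y : P, x ≠ y → ∃ g C A, S.IsHom g C A ∧ g • x = x ∧ g • y = y)
    (habL : ∀ l m : L, l ≠ m → ∃ g C A, S.IsHom g C A ∧ g • l = l ∧ g • m = m) :
    IsPrimePow S.n := by
  by_contra hpp
  have hcen : ∀ d : P, ∃ g A, S.IsHom g d A := by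
    intro d
    by_contra! hd
    exact hpp (S.isPrimePow_of_noncentre hodd hab habL hd)
  have haxis : ∀ l : L, ∃ g C, S.IsHom g C l := by
    intro l
    by_contra! hl
    exact hpp (S.dual.isPrimePow_of_noncentre hodd
      (fun x y hxy => let ⟨g, C, A, hg, h1, h2⟩ := habL x y hxy; ⟨g, A, C, IsHom.dual S hg, h1, h2⟩)
      (fun x y hxy => let ⟨g, C, A, hg, h1, h2⟩ := hab x y hxy; ⟨g, A, C, IsHom.dual S hg, h1, h2⟩)
      (d := l) fun g C hg => hl g C (IsHom.of_dual S hg))
  by_cases hall : ∀ (Y : P) (l : L), S.inc Y l → ∃ e ∈ S.EC Y l, e ≠ 1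
  · exact hpp (S.isPrimePow_of_elations hall)
  push Not at hall
  obtain ⟨Y₀, l₀, hY₀, hno⟩ := hall
  have hu₀ : ∀ g C g' C', S.IsHom g C l₀ → S.IsHom g' C' l₀ → C = C' :=
    (S.full_or_unique hcen hpp l₀).resolve_right fun hf =>
      let ⟨e, he, he1⟩ := hf Y₀ hY₀
      he1 (hno e he)
  obtain ⟨g₀, C₀, hg₀⟩ := haxis l₀
  -- all lines have a unique centre
  have huL : ∀ (m : L) g C g' C', S.IsHom g C m → S.IsHom g' C' m → C = C' := by
    intro m
    obtain ⟨Y, hYl, hYm⟩ := S.exists_inter l₀ m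
    exact S.unique_line hcen hpp (S.unique_point haxis hpp hu₀ hg₀ hYl).2 hYm
  have huP : ∀ (Y : P) τ B τ' B', S.IsHom τ Y B → S.IsHom τ' Y B' → B = B' := by
    intro Y
    obtain ⟨m, hm, -⟩ := S.exists_line Y Y
    obtain ⟨g, C, hg⟩ := haxis m
    exact (S.unique_point haxis hpp (huL m) hg hm).2
  choose τ ax hτ using hcen
  have hsurj : ∀ l, ∃ Y, ax Y = l := fun l => by
    obtain ⟨g, C, hg⟩ := haxis l
    exact ⟨C, huP C _ _ _ _ (hτ C) hg⟩
  have hinj : Function.Injective ax := fun Y Y' e => huL (ax Y) _ _ _ _ (hτ Y) (e ▸ hτ Y')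
  have := Fintype.ofFinite P
  obtain ⟨Y, hY⟩ := exists_absolute (ι := P) S.n hodd S.one_lt
    (by rw [← Nat.card_eq_fintype_card, S.card_P]) (fun i j => S.inc i (ax j))
    (fun i j hij => (S.unique_point haxis hpp (huL (ax j)) (hτ j) hij).1 _ _ (hτ i))
    (fun i => by
      rw [← S.card_pencil i]
      exact Set.ncard_congr (fun Y _ => ax Y) (fun Y hY => hY) (fun Y Y' _ _ e => hinj e)
        fun l hl => by
          obtain ⟨Y, rfl⟩ := hsurj l
          exact ⟨Y, hl, rfl⟩)
    (fun i j hij => by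
      obtain ⟨l, hl, hlu⟩ := S.line i j hij
      obtain ⟨Y, rfl⟩ := hsurj l
      exact ⟨Y, hl, fun Y' hY' => hinj (hlu _ hY')⟩)
  exact (hτ Y).off hY

end Geo

end Cfsg.Agent.OstromWagner
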