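import Cfsg.Agent.Lib.OstromWagner.Groups
import Cfsg.Agent.Lib.AxialDesign.Basic

/-!
# A doubly transitive collineation group

Transitivity on lines, pairs of lines, antiflags, and inside flag stabilisers.
-/

set_option autoImplicit false
set_option linter.unusedSectionVars false
set_option linter.unusedVariables false

open scoped Classical
open MulAction

namespace Cfsg.Agent.OstromWagner

/-- A subgroup of index prime to the size of an orbit is transitive on it. -/
theorem orbit_eq_of_coprime {K X : Type*} [Group K] [Finite K] [MulAction K X] [Finite X]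
    (H : Subgroup K) (y : X) (hco : Nat.Coprime H.index (orbit K y).ncard) :
    orbit H y = orbit K y := by
  refine Set.eq_of_subset_of_ncard_le ?_ ?_ (Set.toFinite _)
  · rintro _ ⟨h, rfl⟩
    exact ⟨(h : K), rfl⟩
  refine Nat.le_of_dvd ((Set.ncard_pos (Set.toFinite _)).2 ⟨y, mem_orbit_self y⟩)
    (hco.symm.dvd_of_dvd_mul_left ?_)
  rw [← index_stabilizer K y, ← index_stabilizer H y,
    show stabilizer H y = (stabilizer K y).subgroupOf H from Subgroup.ext fun h => Iff.rfl,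
    mul_comm]
  show _ ∣ (stabilizer K y).relIndex H * H.index
  rw [← Subgroup.inf_relIndex_right, Subgroup.relIndex_mul_index inf_le_right]
  exact Subgroup.index_dvd_of_le inf_le_left

/-- The orbit of a `p`-subgroup of full order is divisible by the `p`-part of the orbit of the group. -/
theorem dvd_orbit {Γ X : Type*} [Group Γ] [Finite Γ] [MulAction Γ X] [Finite X] {p e : ℕ}
    (hp : p.Prime) {K Q : Subgroup Γ} (hQK : Q ≤ K) (hQ : IsPGroup p Q)
    (hsyl : ∀ j, p ^ j ∣ Nat.card K → p ^ j ∣ Nat.card Q) (y : X)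
    (he : p ^ e ∣ (orbit K y).ncard) : p ^ e ∣ (orbit Q y).ncard := by
  have := Fact.mk hp
  obtain ⟨b, hb⟩ := IsPGroup.iff_card.1 (hQ.to_subgroup (stabilizer Q y))
  have h1 : p ^ b ∣ Nat.card (stabilizer K y) := by
    rw [← hb]
    have : (stabilizer Q y).map (Subgroup.inclusion hQK) ≤ stabilizer K y := by
      rintro _ ⟨q, hq, rfl⟩
      exact hq
    have h := Subgroup.card_dvd_of_le this
    rwa [Subgroup.card_map_of_injective (Subgroup.inclusion_injective hQK)] at h
  have h2 : p ^ (e + b) ∣ Nat.card K := by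
    rw [pow_add, ← Subgroup.index_mul_card (stabilizer K y), index_stabilizer]
    exact mul_dvd_mul he h1
  have h3 := hsyl _ h2
  rw [pow_add, ← Subgroup.index_mul_card (stabilizer Q y), index_stabilizer, hb] at h3
  exact Nat.dvd_of_mul_dvd_mul_right (pow_pos hp.pos b) h3

/-- An invariant set is built from orbits. -/
theorem dvd_ncard_of_orbits {Γ X : Type*} [Group Γ] [MulAction Γ X] [Finite X] (Q : Subgroup Γ) {d : ℕ}
    (Y : Set X) (hinv : ∀ q ∈ Q, ∀ y ∈ Y, q • y ∈ Y) (h : ∀ y ∈ Y, d ∣ (orbit Q y).ncard) :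
    d ∣ Y.ncard := by
  let _ : MulAction Q Y :=
    { smul := fun q y => ⟨(q : Γ) • y.1, hinv _ q.2 _ y.2⟩
      one_smul := fun y => Subtype.ext (one_smul Γ y.1)
      mul_smul := fun e f y => Subtype.ext (mul_smul (e : Γ) (f : Γ) y.1) }
  have := Fintype.ofFinite (orbitRel.Quotient Q Y)
  rw [← Nat.card_coe_set_eq, Nat.card_congr (selfEquivSigmaOrbits' Q Y), Nat.card_sigma]
  refine Finset.dvd_sum fun ω _ => ?_
  induction ω using Quotient.inductionOn' with
  | h y =>
    rw [orbitRel.Quotient.orbit_mk, Nat.card_coe_set_eq]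
    have e : Subtype.val '' (orbit Q y) = orbit Q y.1 := by
      ext x
      constructor
      · rintro ⟨_, ⟨q, rfl⟩, rfl⟩; exact ⟨q, rfl⟩
      · rintro ⟨q, rfl⟩; exact ⟨q • y, ⟨q, rfl⟩, rfl⟩
    rw [← Set.ncard_image_of_injective _ Subtype.val_injective, e]
    exact h _ y.2

/-- A `p`-group on an invariant set of size prime to `p` has a fixed point there. -/
theorem exists_fixed_in {Γ X : Type*} [Group Γ] [Finite Γ] [MulAction Γ X] [Finite X] {p : ℕ}
    (hp : p.Prime) (Q : Subgroup Γ) (hQ : IsPGroup p Q) (Y : Set X)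
    (hinv : ∀ q ∈ Q, ∀ y ∈ Y, q • y ∈ Y) (hY : ¬ p ∣ Y.ncard) : ∃ y ∈ Y, ∀ q ∈ Q, q • y = y := by
  have := Fact.mk hp
  by_contra! hno
  refine hY (dvd_ncard_of_orbits Q Y hinv fun y hy => ?_)
  obtain ⟨a, ha⟩ := hQ.card_orbit y
  rw [Nat.card_coe_set_eq] at ha
  rw [ha]
  refine dvd_pow_self p fun h0 => ?_
  rw [h0, pow_zero] at ha
  obtain ⟨q, hq, hne⟩ := hno y hy
  obtain ⟨w, hw⟩ := Set.ncard_eq_one.1 ha
  have e1 : q • y ∈ orbit Q y := ⟨⟨q, hq⟩, rfl⟩
  have e2 : y ∈ orbit Q y := mem_orbit_self y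
  rw [hw, Set.mem_singleton_iff] at e1 e2
  exact hne (e1.trans e2.symm)

namespace Geo

variable {Γ P L : Type*} [Group Γ] [MulAction Γ P] [MulAction Γ L] (S : Geo Γ P L) [Finite P] [Finite L]

theorem ncard_pair_one {x y : P} (h : x ≠ y) : {X | S.inc x X ∧ S.inc y X}.ncard = 1 := by
  obtain ⟨l, hl, hu⟩ := S.line x y h
  rw [show {X | S.inc x X ∧ S.inc y X} = {l} from
    Set.ext fun X => ⟨fun hX => hu X hX, fun (e : X = l) => e ▸ hl⟩, Set.ncard_singleton]

include S in
theorem fixed_eq (g : Γ) : {x : P | g • x = x}.ncard = {l : L | g • l = l}.ncard := by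
  have h := (AxialDesign.incidence_facts (P' := P) (β' := L) (by rw [S.card_L, S.card_P]) S.inc
    (S.n + 1) 1 (by have := S.one_lt; omega) S.card_line S.card_pencil
    fun x y h => S.ncard_pair_one h).2 (MulAction.toPerm g) (MulAction.toPerm g)
    fun x X => S.smul_inc g x X
  simpa using h

variable (h2 : ∀ p₁ p₂ q₁ q₂ : P, p₁ ≠ p₂ → q₁ ≠ q₂ → ∃ g : Γ, g • p₁ = q₁ ∧ g • p₂ = q₂)

include S h2

/-- The stabiliser of a line is doubly transitive on it. -/
theorem trans_line2 {l : L} {a b a' b' : P} (ha : S.inc a l) (hb : S.inc b l) (ha' : S.inc a' l)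
    (hb' : S.inc b' l) (hab : a ≠ b) (hab' : a' ≠ b') : ∃ g : Γ, g • l = l ∧ g • a = a' ∧ g • b = b' := by
  obtain ⟨g, h1, h3⟩ := h2 a b a' b' hab hab'
  refine ⟨g, S.eq_line hab' ?_ ?_ ha' hb', h1, h3⟩
  · exact h1 ▸ (S.smul_inc g a l).2 ha
  · exact h3 ▸ (S.smul_inc g b l).2 hb

theorem trans_flag {x x' : P} {l l' : L} (hx : S.inc x l) (hx' : S.inc x' l') :
    ∃ g : Γ, g • x = x' ∧ g • l = l' := by
  obtain ⟨y, hy, hyx, -⟩ := S.exists_line_avoid l x x
  obtain ⟨y', hy', hyx', -⟩ := S.exists_line_avoid l' x' x'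
  obtain ⟨g, h1, h3⟩ := h2 x y x' y' hyx.symm hyx'.symm
  exact ⟨g, h1, S.eq_line hyx'.symm (h1 ▸ (S.smul_inc g x l).2 hx) (h3 ▸ (S.smul_inc g y l).2 hy)
    hx' hy'⟩

theorem trans_in {l : L} {a a' : P} (ha : S.inc a l) (ha' : S.inc a' l) :
    ∃ g : Γ, g • l = l ∧ g • a = a' :=
  let ⟨g, h1, h3⟩ := S.trans_flag h2 ha ha'
  ⟨g, h3, h1⟩

/-- Transitivity on antiflags. -/
theorem trans_out {l : L} {x y : P} (hx : ¬ S.inc x l) (hy : ¬ S.inc y l) :
    ∃ g : Γ, g • l = l ∧ g • x = y := by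
  have := S.finite_group
  obtain ⟨g, hg, -⟩ : ∃ g : Γ, g • x = y ∧ True := by
    by_cases h : x = y
    · exact ⟨1, by rw [one_smul, h], trivial⟩
    · obtain ⟨g, h1, -⟩ := h2 x y y x h (Ne.symm h)
      exact ⟨g, h1, trivial⟩
  have hgl : ¬ S.inc y (g • l) := fun h => hx ((S.smul_inc g x l).1 (hg.symm ▸ h))
  -- the stabiliser of `y` has two orbits on points, so two on lines
  let K := stabilizer Γ y
  have hcard := AxialDesign.card_orbits_eq (K := K) (A := P) (C := L) fun k => S.fixed_eq (k : Γ)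
  suffices hsame : (Quotient.mk'' (g • l) : orbitRel.Quotient K L) = Quotient.mk'' l by
    obtain ⟨k, hk⟩ := Quotient.exact' hsame.symm
    exact ⟨(k : Γ) * g, by rw [mul_smul]; exact hk, by rw [mul_smul, hg]; exact k.2⟩
  by_contra hne
  have hP : Nat.card (orbitRel.Quotient K P) ≤ 2 := by
    obtain ⟨a, ha⟩ : ∃ a, a ≠ y := ⟨g • l |> fun m => (S.exists_line_avoid m y y).choose,
      (S.exists_line_avoid (g • l) y y).choose_spec.2.1⟩
    let f : Fin 2 → orbitRel.Quotient K P := ![Quotient.mk'' y, Quotient.mk'' a]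
    refine (Nat.card_le_card_of_surjective f fun ω => ?_).trans (by simp)
    induction ω using Quotient.inductionOn' with
    | h b =>
      by_cases hb : b = y
      · exact ⟨0, by simp [f, hb]⟩
      · obtain ⟨k, h1, h3⟩ := h2 y b y a (Ne.symm hb) ha.symm
        exact ⟨1, Quotient.sound' ⟨⟨k, h1⟩, h3⟩⟩
  obtain ⟨m, hm, -⟩ := S.exists_line y y
  have hinv : ∀ {a b : L}, (Quotient.mk'' a : orbitRel.Quotient K L) = Quotient.mk'' b →
      (S.inc y a ↔ S.inc y b) := by
    intro a b e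
    obtain ⟨k, rfl⟩ := Quotient.exact' e
    exact S.inc_fix_smul k.2 b
  have hL : 3 ≤ Nat.card (orbitRel.Quotient K L) := by
    have : Finite (orbitRel.Quotient K L) := Quotient.finite _
    have hs : ({Quotient.mk'' (g • l), Quotient.mk'' l, Quotient.mk'' m} :
        Set (orbitRel.Quotient K L)).ncard = 3 := by
      rw [Set.ncard_insert_of_notMem (by
        simp only [Set.mem_insert_iff, Set.mem_singleton_iff, not_or]
        exact ⟨hne, fun e => hgl ((hinv e).2 hm)⟩) (Set.toFinite _),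
        Set.ncard_pair fun e => hy ((hinv e).2 hm)]
    rw [← hs, ← Set.ncard_univ]
    exact Set.ncard_le_ncard (Set.subset_univ _)
  omega

theorem orbit_stab_line {l : L} {x : P} (hx : S.inc x l) :
    orbit (stabilizer Γ l) x = {q | S.inc q l} := by
  ext q
  constructor
  · rintro ⟨k, rfl⟩
    exact (S.inc_smul_fix k.2 x).2 hx
  · intro hq
    obtain ⟨g, h1, h3⟩ := S.trans_in h2 hx hq
    exact ⟨⟨g, h1⟩, h3⟩

/-- A flag stabiliser is transitive off the line. -/
theorem trans_off_flag {l : L} {x y y' : P} (hx : S.inc x l) (hy : ¬ S.inc y l) (hy' : ¬ S.inc y' l) :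
    ∃ g : Γ, g • x = x ∧ g • l = l ∧ g • y = y' := by
  have := S.finite_group
  have horb : orbit (stabilizer Γ l) y = {q | ¬ S.inc q l} := by
    ext q
    constructor
    · rintro ⟨k, rfl⟩
      exact fun h => hy ((S.inc_smul_fix k.2 y).1 h)
    · intro hq
      obtain ⟨g, h1, h3⟩ := S.trans_out h2 hy hq
      exact ⟨⟨g, h1⟩, h3⟩
  have hco : Nat.Coprime (stabilizer (stabilizer Γ l) x).index (orbit (stabilizer Γ l) y).ncard := by
    rw [index_stabilizer, S.orbit_stab_line h2 hx, horb, S.card_line, S.ncard_off]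
    exact Nat.Coprime.pow_right 2 (by simp)
  have hmem : y' ∈ orbit (stabilizer (stabilizer Γ l) x) y := by
    rw [orbit_eq_of_coprime _ y hco, horb]
    exact hy'
  obtain ⟨⟨⟨g, hgl⟩, hgx⟩, hgy⟩ := hmem
  exact ⟨g, hgx, hgl, hgy⟩

/-- A flag stabiliser is transitive on the other lines through the point. -/
theorem trans_pencil_flag {l k k' : L} {x : P} (hx : S.inc x l) (hk : S.inc x k) (hkl : k ≠ l)
    (hk' : S.inc x k') (hkl' : k' ≠ l) : ∃ g : Γ, g • x = x ∧ g • l = l ∧ g • k = k' := by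
  obtain ⟨y, hy, hyx, -⟩ := S.exists_line_avoid k x x
  obtain ⟨y', hy', hyx', -⟩ := S.exists_line_avoid k' x x
  obtain ⟨g, hgx, hgl, hgy⟩ := S.trans_off_flag h2 hx
    (fun h => hyx (S.eq_point hkl hy h hk hx)) fun h => hyx' (S.eq_point hkl' hy' h hk' hx)
  exact ⟨g, hgx, hgl, S.eq_line hyx'.symm (hgx ▸ (S.smul_inc g x k).2 hk)
    (hgy ▸ (S.smul_inc g y k).2 hy) hk' hy'⟩

/-- Two points have a stabiliser transitive on the other lines through one of them. -/
theorem trans_pencil_pair {l k k' : L} {x b : P} (hbx : b ≠ x) (hx : S.inc x l) (hb : S.inc b l)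
    (hk : S.inc x k) (hkl : k ≠ l) (hk' : S.inc x k') (hkl' : k' ≠ l) :
    ∃ g : Γ, g • x = x ∧ g • b = b ∧ g • k = k' := by
  obtain ⟨g, hgx, hgl, hgk⟩ := S.trans_pencil_flag h2 hx hk hkl hk' hkl'
  have hb1 : ¬ S.inc (g • b) k' := fun h => hbx (by
    have h1 : S.inc b k := (S.smul_inc g b k).1 (hgk.symm ▸ h)
    exact S.eq_point hkl h1 hb hk hx)
  obtain ⟨h, hhx, hhk, hhb⟩ := S.trans_off_flag h2 hk' hb1
    fun h => hbx (S.eq_point hkl' h hb hk' hx)
  exact ⟨h * g, by rw [mul_smul, hgx, hhx], by rw [mul_smul, hhb], by rw [mul_smul, hgk, hhk]⟩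

theorem two_trans_lines (X Y X' Y' : L) (h : X ≠ Y) (h' : X' ≠ Y') :
    ∃ g : Γ, g • X = X' ∧ g • Y = Y' := by
  obtain ⟨a, haX, haY⟩ := S.exists_inter X Y
  obtain ⟨a', haX', haY'⟩ := S.exists_inter X' Y'
  obtain ⟨g, hga, hgX⟩ := S.trans_flag h2 haX haX'
  have h1 : S.inc a' (g • Y) := hga ▸ (S.smul_inc g a Y).2 haY
  obtain ⟨k, hkx, hkX, hkY⟩ := S.trans_pencil_flag h2 haX' h1
    (fun e => h (MulAction.injective g (hgX.trans e.symm))) haY' h'.symm
  exact ⟨k * g, by rw [mul_smul, hgX, hkX], by rw [mul_smul, hkY]⟩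

end Geo

end Cfsg.Agent.OstromWagner
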